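import Cfsg.Agent.Lib.KnownA.AltSect.G2Sections
import Cfsg.Agent.Lib.Chev.Tw.D4

/-!
Alternating sections of the triality twisted groups of type D4.
-/

set_option autoImplicit false
set_option linter.all false
set_option maxRecDepth 100000

namespace Cfsg.Agent.KnownA.AltSect

open Cfsg.Lie Cfsg.Agent.Lib.Chev Cfsg.Agent.Lib.Chev.Tw

/-- The twelve block words. -/
def blD4 : List (List ℕ) := wlG2

/-- The images of the fundamental roots. -/
def imgD4 (L : List ℕ) : List ℕ := (List.range 4).map fun j => wl tabD4 (twD4.cat L) (sim chevD4 j)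

theorem blD4_chk : (decide (blD4.map imgD4).Nodup &&
    blD4.all (fun w => w.all (fun i => decide (i < 2)) &&
      (List.range 2).all (fun i => blD4.any fun v => imgD4 v == imgD4 (i :: w)) &&
      (List.range 4).all (fun j => (wl tabD4 (twD4.cat w))^[6] (sim chevD4 j) == sim chevD4 j))) = true := by
  decide +kernel

theorem blD4_spec {w : List ℕ} (hw : w ∈ blD4) : IsB twD4 w ∧
    (∀ i < 2, ∃ v ∈ blD4, imgD4 v = imgD4 (i :: w)) ∧
    ∀ j < 4, (wl tabD4 (twD4.cat w))^[6] (sim chevD4 j) = sim chevD4 j := by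
  have h := blD4_chk
  simp only [Bool.and_eq_true, List.all_eq_true, List.any_eq_true, decide_eq_true_eq, beq_iff_eq,
    List.mem_range] at h
  exact ⟨(h.2 w hw).1.1, (h.2 w hw).1.2, (h.2 w hw).2⟩

theorem catW {L : List ℕ} (hL : IsB twD4 L) : IsW chevD4 (twD4.cat L) := by
  intro x hx
  simp only [TwTab.cat, List.mem_flatten, List.mem_map] at hx
  obtain ⟨_, ⟨k, hk, rfl⟩, hx⟩ := hx
  have hk2 : k < 2 := hL k hk
  have hall : ∀ k < 2, ∀ x ∈ twD4.blk k, x < 4 := by decide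
  exact hall k hk2 x hx

theorem imgD4_eq {v w : List ℕ} (hv : IsB twD4 v) (hw : IsB twD4 w) (h : imgD4 v = imgD4 w) :
    ∀ s < chevD4.nroots, wl tabD4 (twD4.cat v) s = wl tabD4 (twD4.cat w) s := fun s hs =>
  goodD4.wl_eq_of_simples (catW hv) (catW hw) (fun j hj => by
    simp only [imgD4, List.map_inj_left, List.mem_range] at h
    exact h j hj) hs

theorem blD4_cover : ∀ {L : List ℕ}, IsB twD4 L → ∃ w ∈ blD4, ∀ s < chevD4.nroots,
    wl tabD4 (twD4.cat L) s = wl tabD4 (twD4.cat w) s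
  | [], _ => ⟨[], by simp [blD4, wlG2], fun _ _ => rfl⟩
  | i :: L, hL => by
    have hi : i < 2 := hL i List.mem_cons_self
    obtain ⟨w, hw, he⟩ := blD4_cover (L := L) fun x hx => hL x (List.mem_cons_of_mem _ hx)
    obtain ⟨hwB, hcl, -⟩ := blD4_spec hw
    obtain ⟨v, hv, hve⟩ := hcl i hi
    have hiw : IsB twD4 (i :: w) := fun x hx => by
      rcases List.mem_cons.1 hx with rfl | hx
      · exact hi
      · exact hwB x hx
    refine ⟨v, hv, fun s hs => ?_⟩
    rw [imgD4_eq (blD4_spec hv).1 hiw hve s hs, TwTab.cat_cons, TwTab.cat_cons, wl_append, wl_append,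
      he s hs]

theorem blocks_six {L : List ℕ} (hL : IsB twD4 L) :
    ∀ s < chevD4.nroots, (wl tabD4 (twD4.cat L))^[6] s = s := by
  obtain ⟨w, hw, he⟩ := blD4_cover hL
  obtain ⟨hwB, -, h6⟩ := blD4_spec hw
  have word : ∀ (u : List ℕ) n, ∀ s, (wl tabD4 u)^[n] s = wl tabD4 (List.replicate n u).flatten s := by
    intro u n
    induction n with
    | zero => intro s; rfl
    | succ n ih =>
      intro s
      rw [Function.iterate_succ_apply', ih, List.replicate_succ, List.flatten_cons, wl_append]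
  have hit : ∀ n, ∀ s < chevD4.nroots, (wl tabD4 (twD4.cat L))^[n] s = (wl tabD4 (twD4.cat w))^[n] s ∧
      (wl tabD4 (twD4.cat L))^[n] s < chevD4.nroots := by
    intro n
    induction n with
    | zero => intro s hs; exact ⟨rfl, hs⟩
    | succ n ih =>
      intro s hs
      obtain ⟨h1, h2⟩ := ih s hs
      rw [Function.iterate_succ_apply', Function.iterate_succ_apply', ← h1, ← he _ h2]
      exact ⟨rfl, goodD4.wl_lt (catW hL) h2⟩
  intro s hs
  rw [(hit 6 s hs).1, word]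
  refine goodD4.wl_eq_of_simples (l' := []) (fun x hx => ?_) isW_nil (fun j hj => by
    rw [← word, h6 j hj]; rfl) hs
  simp only [List.mem_flatten, List.mem_replicate] at hx
  obtain ⟨_, ⟨_, rfl⟩, hx⟩ := hx
  exact catW hwB x hx

variable {K : Type*} [Field K] [Fintype K] {q : ℕ} (A : D4.Par K q)
include A

theorem D4_fusion {g : GL chevD4.Idx K} (hg : g ∈ (D4.gens A).G1) :
    ∃ n, n ∈ chevD4.monomialSubgroup K ⊓ (D4.gens A).G1 ∧ ∀ t ∈ chevD4.diagonalSubgroup K,
      g * t * g⁻¹ ∈ chevD4.diagonalSubgroup K → g * t * g⁻¹ = n * t * n⁻¹ := by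
  obtain ⟨u₁, n, u₂, hu₁, -, hn, hnG, hu₂, -, rfl⟩ := (D4.gens A).normal_form hg
  refine ⟨n, ⟨hn, hnG⟩, fun t ht ht' => ?_⟩
  set Y := D4.sys A
  set t' := u₁ * n * u₂ * t * (u₁ * n * u₂)⁻¹ with ht'def
  obtain ⟨l, hl⟩ := Y.G.exists_rep hn
  have htn : ∀ x ∈ chevD4.diagonalSubgroup K, n * x * n⁻¹ ∈ chevD4.diagonalSubgroup K := fun x hx =>
    (Subgroup.mem_normalizer_iff.1 (Y.G.monomial_le_normalizer hn) _).1 hx
  have huU : u₂ ∈ Y.G.USub K (flipSet chevD4 tabD4 l) :=
    Y.mem_flip hl.1 (Y.G.rep_act hl) hu₂.1 hu₂.2.2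
  have huU' : t⁻¹ * u₂ * t ∈ Y.G.USub K (flipSet chevD4 tabD4 l) := by
    have := (Subgroup.mem_normalizer_iff.1 (Y.G.diag_normalizes _ (inv_mem ht)) _).1 huU
    simpa using this
  have hb : t' * u₁ ∈ chevD4.borelSubgroup K :=
    mul_mem (Subgroup.mem_sup_right ht') (Subgroup.mem_sup_left hu₁)
  have hb' : u₁ * (n * t * n⁻¹) ∈ chevD4.borelSubgroup K :=
    mul_mem (Subgroup.mem_sup_left hu₁) (Subgroup.mem_sup_right (htn t ht))
  have e : t' * u₁ * n * u₂ = u₁ * (n * t * n⁻¹) * n * (t⁻¹ * u₂ * t) := by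
    rw [ht'def]; group
  obtain ⟨e1, -⟩ := Y.G.normal_form_unique hl hb hb' huU huU' e
  have h2 : u₁⁻¹ * t' * u₁ = n * t * n⁻¹ := by rw [mul_assoc u₁⁻¹, e1]; group
  have h3 : t'⁻¹ * u₁⁻¹ * t' * u₁ = t'⁻¹ * (n * t * n⁻¹) := by rw [← h2]; group
  have h4 : t'⁻¹ * u₁⁻¹ * t' * u₁ = 1 := by
    have hp : t'⁻¹ * u₁⁻¹ * t' ∈ chevD4.posUnipotent K := by
      have := (Subgroup.mem_normalizer_iff.1 (Y.G.diag_normalizes_pos (inv_mem ht')) _).1 (inv_mem hu₁)
      simpa using this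
    have hq : t'⁻¹ * u₁⁻¹ * t' * u₁ ∈ chevD4.diagonalSubgroup K := by
      rw [h3]; exact mul_mem (inv_mem ht') (htn t ht)
    have hbot : t'⁻¹ * u₁⁻¹ * t' * u₁ ∈ chevD4.posUnipotent K ⊓ chevD4.diagonalSubgroup K :=
      Subgroup.mem_inf.2 ⟨mul_mem hp hu₁, hq⟩
    rw [Y.G.pos_inf_diag] at hbot
    exact Subgroup.mem_bot.1 hbot
  exact inv_mul_eq_one.1 (h3.symm.trans h4)

/-- The roots are moved as by a block word. -/
theorem D4_act {n : GL chevD4.Idx K} (hn : n ∈ chevD4.monomialSubgroup K) (hg : n ∈ (D4.gens A).G1) :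
    ∃ L, IsB twD4 L ∧ (D4.sys A).G.Act K n (wl tabD4 (twD4.cat L)) ∧
      n * ((D4.gens A).nw L)⁻¹ ∈ chevD4.diagonalSubgroup K := by
  obtain ⟨L, hL, hd⟩ := (D4.gens A).exists_blocks hn hg
  refine ⟨L, hL, ?_, hd.1⟩
  have h := (D4.sys A).G.act_mul ((D4.sys A).G.act_diag hd.1) ((D4.gens A).act_nw hL)
  rw [inv_mul_cancel_right] at h
  exact h

theorem D4_action : ∀ S : Subgroup ↥(D4.gens A).G1,
    S ≤ (chevD4.diagonalSubgroup K).subgroupOf (D4.gens A).G1 → ∀ h : ↥(D4.gens A).G1,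
      (∀ s ∈ S, h * s * h⁻¹ ∈ S) → ∀ s ∈ S, h ^ 6 * s * (h ^ 6)⁻¹ = s := by
  intro S hS h hh s hs
  obtain ⟨n, hn, hfus⟩ := D4_fusion A (g := (h : GL chevD4.Idx K)) h.2
  have iter : ∀ k : ℕ, h ^ k * s * (h ^ k)⁻¹ ∈ S ∧
      ((h ^ k * s * (h ^ k)⁻¹ : ↥(D4.gens A).G1) : GL chevD4.Idx K) =
        n ^ k * (s : GL chevD4.Idx K) * (n ^ k)⁻¹ := by
    intro k
    induction k with
    | zero => simp [hs]
    | succ k ih =>
      have e : h ^ (k + 1) * s * (h ^ (k + 1))⁻¹ = h * (h ^ k * s * (h ^ k)⁻¹) * h⁻¹ := by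
        rw [pow_succ']; group
      rw [e]
      refine ⟨hh _ ih.1, ?_⟩
      calc ((h * (h ^ k * s * (h ^ k)⁻¹) * h⁻¹ : ↥(D4.gens A).G1) : GL chevD4.Idx K)
          = (h : GL chevD4.Idx K) * ((h ^ k * s * (h ^ k)⁻¹ : ↥(D4.gens A).G1) : GL chevD4.Idx K) *
            (h : GL chevD4.Idx K)⁻¹ := rfl
        _ = n * ((h ^ k * s * (h ^ k)⁻¹ : ↥(D4.gens A).G1) : GL chevD4.Idx K) * n⁻¹ :=
          hfus _ (hS ih.1) (hS (hh _ ih.1))
        _ = _ := by rw [ih.2, pow_succ']; group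
  obtain ⟨L, hL, hact, -⟩ := D4_act A hn.1 hn.2
  apply Subtype.ext
  rw [(iter 6).2]
  exact mul_inv_eq_of_eq_mul ((D4.sys A).G.diag_comm ((D4.sys A).G.mem_diag_of_act_id (pow_mem hn.1 6)
    (act_iter (D4.sys A).G hact 6) (blocks_six hL)) (hS hs))

/-- The monomial subgroup inside the group. -/
abbrev ND4 : Subgroup ↥(D4.gens A).G1 := (chevD4.monomialSubgroup K).subgroupOf (D4.gens A).G1

/-- The diagonal subgroup inside the group. -/
abbrev TD4 : Subgroup ↥(D4.gens A).G1 := (chevD4.diagonalSubgroup K).subgroupOf (D4.gens A).G1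

theorem D4_relIndex : (TD4 A).relIndex (ND4 A) = 12 := by
  classical
  have hlen : blD4.length = 12 := rfl
  have hB : ∀ i : Fin 12, IsB twD4 (blD4[i.val]'(by rw [hlen]; exact i.isLt)) := fun i =>
    (blD4_spec (List.getElem_mem _)).1
  have hmono : ∀ i : Fin 12, (D4.gens A).nw (blD4[i.val]'(by rw [hlen]; exact i.isLt)) ∈
      chevD4.monomialSubgroup K := fun i => (D4.sys A).G.monomial_of_rep ((D4.gens A).rep_nw (hB i))
  let el : Fin 12 → ↥(ND4 A) := fun i =>
    ⟨⟨_, (D4.gens A).nw_mem (hB i)⟩, hmono i⟩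
  let Φ : Fin 12 → ↥(ND4 A) ⧸ (TD4 A).subgroupOf (ND4 A) := fun i => QuotientGroup.mk (el i)
  have hΦ : Function.Bijective Φ := by
    constructor
    · intro i j e
      have hd : ((D4.gens A).nw (blD4[i.val]'(by rw [hlen]; exact i.isLt)))⁻¹ *
          (D4.gens A).nw (blD4[j.val]'(by rw [hlen]; exact j.isLt)) ∈ chevD4.diagonalSubgroup K :=
        (QuotientGroup.eq (s := (TD4 A).subgroupOf (ND4 A)) (a := el i) (b := el j)).1 e
      have h1 := (D4.sys A).G.act_mul ((D4.gens A).act_nw (hB i)) ((D4.sys A).G.act_diag hd)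
      rw [mul_inv_cancel_left] at h1
      have himg : imgD4 (blD4[i.val]'(by rw [hlen]; exact i.isLt)) =
          imgD4 (blD4[j.val]'(by rw [hlen]; exact j.isLt)) := by
        simp only [imgD4, List.map_inj_left, List.mem_range]
        intro k hk
        exact ((D4.sys A).G.act_unique ((D4.gens A).act_nw (hB j)) h1 ((D4.sys A).G.sim_lt hk)).symm
      have hnd := blD4_chk
      simp only [Bool.and_eq_true, decide_eq_true_eq] at hnd
      have hget : (blD4.map imgD4)[i.val]'(by simp [hlen]) = (blD4.map imgD4)[j.val]'(by simp [hlen]) := by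
        simpa using himg
      exact Fin.ext ((List.Nodup.getElem_inj_iff hnd.1).1 hget)
    · intro x
      induction x using QuotientGroup.induction_on with
      | H n =>
        obtain ⟨L, hL, hact, -⟩ := D4_act A n.2 (n : ↥(D4.gens A).G1).2
        obtain ⟨w, hw, he⟩ := blD4_cover hL
        obtain ⟨i, hi, rfl⟩ := List.getElem_of_mem hw
        refine ⟨⟨i, hlen ▸ hi⟩, QuotientGroup.eq.2 ?_⟩
        show ((D4.gens A).nw (blD4[i]))⁻¹ * ((n : ↥(D4.gens A).G1) : GL chevD4.Idx K) ∈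
          chevD4.diagonalSubgroup K
        have hiB : IsB twD4 (blD4[i]) := hB ⟨i, hlen ▸ hi⟩
        have hinv := Tw.rep_inv (D4.sys A).G ((D4.gens A).rep_nw hiB)
        refine (D4.sys A).G.mem_diag_of_act_id (mul_mem ((D4.sys A).G.monomial_of_rep hinv) n.2)
          ((D4.sys A).G.act_mul ((D4.sys A).G.rep_act hinv) hact) fun s hs => ?_
        simp only [Function.comp_apply]
        rw [he s hs, (D4.sys A).G.wl_reverse_wl (catW hiB) hs]
  rw [Subgroup.relIndex, Subgroup.index, ← Nat.card_eq_of_bijective Φ hΦ, Nat.card_fin]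

theorem D4_TD4_index : (TD4 A).index = q ^ 12 * (q + 1) * (q ^ 3 + 1) * (q ^ 8 + q ^ 4 + 1) := by
  have hT : Nat.card ↥(TD4 A) = (q - 1) ^ 2 * (q ^ 2 + q + 1) := by
    rw [← D4.card_diag A]
    exact Nat.card_congr
      { toFun := fun x => ⟨x.1.1, x.2, x.1.2⟩
        invFun := fun x => ⟨⟨x.1, x.2.2⟩, x.2.1⟩
        left_inv := fun _ => rfl
        right_inv := fun _ => rfl }
  have hG : Nat.card ↥(D4.gens A).G1 = q ^ 12 * (q ^ 2 - 1) * (q ^ 6 - 1) * (q ^ 8 + q ^ 4 + 1) :=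
    D4.card_group A
  rw [← (TD4 A).card_mul_index, hT] at hG
  have hq := A.hq.one_lt
  obtain ⟨r, hr⟩ : ∃ r, q = r + 1 := ⟨q - 1, by omega⟩
  have e2 : q ^ 2 - 1 = (q - 1) * (q + 1) := by
    rw [hr]; refine Nat.sub_eq_of_eq_add ?_; rw [Nat.add_sub_cancel]; ring
  have e6 : q ^ 6 - 1 = (q - 1) * ((q ^ 2 + q + 1) * (q ^ 3 + 1)) := by
    rw [hr]; refine Nat.sub_eq_of_eq_add ?_; rw [Nat.add_sub_cancel]; ring
  rw [e2, e6] at hG
  refine Nat.eq_of_mul_eq_mul_left (show 0 < (q - 1) ^ 2 * (q ^ 2 + q + 1) from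
    Nat.mul_pos (pow_pos (by omega) 2) (by omega)) ?_
  rw [hG]; ring

theorem D4_five (h1 : q % 5 = 1) : ¬ 5 ∣ (TD4 A).index := by
  rw [D4_TD4_index, Nat.dvd_iff_mod_eq_zero]
  simp [Nat.mul_mod, Nat.pow_mod, Nat.add_mod, h1]

theorem D4_odd (h1 : q % 4 = 1) : ¬ 2 ∣ (ND4 A).index := by
  have hTN : TD4 A ≤ ND4 A := fun x hx => Good.diagonal_le_monomial hx
  have h := Subgroup.relIndex_mul_index hTN
  rw [D4_relIndex, D4_TD4_index] at h
  obtain ⟨k, hk⟩ : ∃ k, q = 4 * k + 1 := ⟨q / 4, by omega⟩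
  generalize (ND4 A).index = X at h ⊢
  rw [hk] at h
  have e : 3 * X = (4 * k + 1) ^ 12 * ((2 * k + 1) ^ 2 * (16 * k ^ 2 + 4 * k + 1) *
      ((4 * k + 1) ^ 8 + (4 * k + 1) ^ 4 + 1)) := by
    refine Nat.eq_of_mul_eq_mul_left (show 0 < 4 by norm_num) ?_
    rw [← mul_assoc, show 4 * 3 = 12 from rfl, h]
    ring
  intro hdvd
  have h2 : 2 ∣ 3 * X := hdvd.mul_left 3
  rw [e, Nat.dvd_iff_mod_eq_zero] at h2
  simp [Nat.mul_mod, Nat.pow_mod, Nat.add_mod] at h2

theorem D4_two_generated : ∀ U : Subgroup ↥(D4.gens A).G1, U ≤ TD4 A →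
    ∃ u v, U = Subgroup.closure {u, v} := by
  intro U hU
  let Fx : Subgroup Kˣ := ((D4.phu A).eqLocus (MonoidHom.id Kˣ))
  let pr : Kˣ × ↥Fx →* (Fin chevD4.rank → Kˣ) :=
    { toFun := fun p => D4.par A p.1 p.2
      map_one' := funext fun i => by
        obtain ⟨i, hi⟩ := i
        have : chevD4.rank = 4 := rfl
        match i, hi with
        | 0, _ => rfl
        | 1, _ => rfl
        | 2, _ => exact map_one (D4.phu A)
        | 3, _ => exact (congrArg (D4.phu A) (map_one (D4.phu A))).trans (map_one (D4.phu A))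
        | n + 4, h => omega
      map_mul' := fun p p' => funext fun i => by
        obtain ⟨i, hi⟩ := i
        have : chevD4.rank = 4 := rfl
        match i, hi with
        | 0, _ => rfl
        | 1, _ => rfl
        | 2, _ => exact map_mul (D4.phu A) _ _
        | 3, _ => exact (congrArg (D4.phu A) (map_mul (D4.phu A) _ _)).trans (map_mul (D4.phu A) _ _)
        | n + 4, h => omega }
  let ψ : Kˣ × ↥Fx →* ↥(D4.gens A).G1 := (((D4.sys A).G.torHom K).comp pr).codRestrict _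
    fun p => D4.torHom_par_mem A p.1 p.2 p.2.2
  refine two_generated_of_image ψ U (hU.trans ?_)
  intro x hx
  obtain ⟨t, a, ha, he⟩ := (D4.diag_eq A _).1 ⟨hx, x.2⟩
  exact ⟨(t, ⟨a, ha⟩), Subtype.ext he.symm⟩

omit A in
theorem D4_sections {K : Type*} [Field K] [Fintype K] (p a : ℕ) [Fact p.Prime] [CharP K p] (ha : 1 ≤ a)
    (q : ℕ) (hqdef : q = p ^ a)
    (hK : Fintype.card K = q ^ 3) (r : ℕ) (H : Subgroup ↥(twistedD4 K q)) (N : Subgroup ↥H)
    [N.Normal] (iso : ↥H ⧸ N ≃* ↥(alternatingGroup (Fin r))) :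
    r ≤ 6 + (if p = 5 then 1 else 0) := by
  classical
  have hp : p.Prime := Fact.out
  have hq : IsPrimePow q := ⟨p, a, hp.prime, ha, hqdef.symm⟩
  let L := FiniteField.Extension K p 4
  letI : Fintype L := Fintype.ofFinite _
  have hcard : Fintype.card L = (q ^ 4) ^ 3 := by
    rw [← Nat.card_eq_fintype_card, FiniteField.natCard_extension, Nat.card_eq_fintype_card, hK,
      ← pow_mul, ← pow_mul, mul_comm 3 4]
  obtain ⟨A⟩ := D4.exists_par (K := L) (hq.pow (by norm_num : (4 : ℕ) ≠ 0)) hcard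
  let ρ : K →+* L := algebraMap K L
  let em : GL chevD4.Idx K →* GL chevD4.Idx L := Units.map ρ.mapMatrix.toMonoidHom
  have hem : Function.Injective em := by
    intro a b h
    refine Units.ext ?_
    have h' : ρ.mapMatrix (a : Matrix chevD4.Idx chevD4.Idx K) = ρ.mapMatrix (b : Matrix chevD4.Idx chevD4.Idx K) :=
      congrArg Units.val h
    exact Matrix.map_injective ρ.injective h'
  have hword : ∀ w : List (ℕ × K), ρ.mapMatrix (chevD4.wordMat K w) =
      chevD4.wordMat L (w.map fun x => (x.1, ρ x.2)) := by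
    intro w
    induction w with
    | nil => simp [ChevalleyDatum.wordMat]
    | cons x w ih =>
      simp only [ChevalleyDatum.wordMat, List.map_cons, List.prod_cons, map_mul] at ih ⊢
      rw [ih]
      congr 1
      exact x_map (D := chevD4) ρ x.1 x.2
  have hpow : ∀ t : K, t ^ q ^ 3 = t := fun t => hK ▸ FiniteField.pow_card t
  have hmap : ∀ g ∈ twistedD4 K q, em g ∈ twistedD4 L (q ^ 4) := by
    intro g hg
    induction hg using Subgroup.closure_induction with
    | mem g hg =>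
      obtain ⟨w, hw, hgw⟩ := hg
      refine Subgroup.subset_closure ⟨w.map fun x => (x.1, ρ x.2), ?_, ?_⟩
      · rcases hw with ⟨t, ht, r', hr', rfl⟩ | ⟨t, rs, hrs, rfl⟩
        · have h4 : ∀ k, t ^ q ^ k = t := by
            intro k
            induction k with
            | zero => simp
            | succ k ih => rw [pow_succ, pow_mul, ih, ht]
          exact Or.inl ⟨ρ t, by rw [← map_pow, h4 4], r', hr', rfl⟩
        · refine Or.inr ⟨ρ t, rs, hrs, ?_⟩
          have e1 : t ^ q ^ 4 = t ^ q := by rw [pow_succ, pow_mul, hpow]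
          have e2 : t ^ (q ^ 4) ^ 2 = t ^ q ^ 2 := by
            rw [show (q ^ 4) ^ 2 = q ^ 3 * (q ^ 3 * q ^ 2) by ring, pow_mul, hpow, pow_mul, hpow]
          simp only [List.map_cons, List.map_nil, ← map_pow, e1, e2]
      · show ρ.mapMatrix (g : Matrix chevD4.Idx chevD4.Idx K) = _
        rw [hgw, hword]
    | one => rw [map_one]; exact one_mem _
    | mul x y _ _ hx hy => rw [map_mul]; exact mul_mem hx hy
    | inv x _ hx => rw [map_inv]; exact inv_mem hx
  let φ0 : ↥(twistedD4 K q) →* ↥(D4.gens A).G1 := (em.comp (twistedD4 K q).subtype).codRestrict _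
    fun g => hmap g g.2
  let φ : ↥H →* ↥(D4.gens A).G1 := φ0.comp H.subtype
  have hφ : Function.Injective φ := fun a b h =>
    Subtype.ext (Subtype.ext (hem (congrArg Subtype.val h)))
  let f : ↥H →* ↥(alternatingGroup (Fin r)) := iso.toMonoidHom.comp (QuotientGroup.mk' N)
  have hf : Function.Surjective f := iso.surjective.comp (QuotientGroup.mk'_surjective N)
  split_ifs with h5
  · subst h5
    have h4 : q ^ 4 % 4 = 1 := by rw [hqdef, ← pow_mul, Nat.pow_mod]; norm_num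
    exact no_eight φ hφ (ND4 A) (TD4 A) (fun x hx => Good.diagonal_le_monomial hx)
      (fun n hn t ht => (Subgroup.mem_normalizer_iff.1 ((D4.sys A).G.monomial_le_normalizer hn) _).1 ht)
      (fun s hs t ht => Subtype.ext ((D4.sys A).G.diag_comm hs ht)) (D4_two_generated A) (D4_relIndex A)
      (D4_odd A h4) r f hf
  · have h51 : q ^ 4 % 5 = 1 := by
      have hnd : ¬ 5 ∣ q := fun h => by
        rw [hqdef] at h
        exact h5 ((Nat.prime_dvd_prime_iff_eq (by norm_num) hp).1 ((show Nat.Prime 5 by norm_num).dvd_of_dvd_pow h)).symm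
      rw [Nat.pow_mod]
      have hlt : q % 5 < 5 := Nat.mod_lt _ (by norm_num)
      rw [Nat.dvd_iff_mod_eq_zero] at hnd
      interval_cases q % 5 <;> first | omega | rfl
    exact no_five φ hφ (TD4 A) (D4_five A h51) (D4_action A) r f hf

end Cfsg.Agent.KnownA.AltSect
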