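import Mathlib

/-!
A Sylow two-subgroup of the alternating group of degree eight has no abelian subgroup of order
sixteen with two generators.
-/

set_option autoImplicit false
set_option maxRecDepth 100000
set_option linter.all false

namespace Cfsg.Agent.KnownA.AltSect

/-- Packed images of eight points. -/
def codes : List ℕ :=
  [342391, 342846, 343525, 343980, 371070, 371511, 372204, 372645, 2177406, 2177847, 2178540, 2178981, 2206071, 2206526, 2207205, 2207660, 4987255, 4987710, 4988389, 4988844, 5015934, 5016375, 5017068, 5017509, 6822270, 6822711, 6823404, 6823845, 6850935, 6851390, 6852069, 6852524, 9924691, 9925146, 9925825, 9926280, 9953370, 9953811, 9954504, 9954945, 11759706, 11760147, 11760840, 11761281, 11788371, 11788826, 11789505, 11789960, 14569555, 14570010, 14570689, 14571144, 14598234, 14598675, 14599368, 14599809, 16404570, 16405011, 16405704, 16406145, 16433235, 16433690, 16434369, 16434824]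

/-- An image. -/
def dig (a i : ℕ) : ℕ := (a >>> (3 * i)) % 8

/-- Pack eight images. -/
def pk (f : ℕ → ℕ) : ℕ :=
  f 0 + 8 * (f 1 + 8 * (f 2 + 8 * (f 3 + 8 * (f 4 + 8 * (f 5 + 8 * (f 6 + 8 * f 7))))))

/-- Composition of codes. -/
def cmul (a b : ℕ) : ℕ := pk fun i => dig a (dig b i)

/-- The code of the identity. -/
def cone : ℕ := pk id

/-- A power of a code. -/
def cpow (a : ℕ) : ℕ → ℕ
  | 0 => cone
  | n + 1 => cmul (cpow a n) a

/-- The inverse of a code. -/
def cinv (a : ℕ) : ℕ := cpow a 3

/-- The sixteen products of powers of two codes. -/
def prods (a b : ℕ) : List ℕ :=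
  (List.range 4).flatMap fun i => (List.range 4).map fun j => cmul (cpow a i) (cpow b j)

theorem codes_closed : (codes.all fun a => codes.all fun b => codes.contains (cmul a b)) = true := by
  decide +kernel

theorem codes_basic : (codes.contains cone && codes.all (fun a => cpow a 4 == cone)) = true := by
  decide +kernel

theorem codes_comm : (codes.all fun a => codes.all fun b =>
    cmul a b != cmul b a || decide ((prods a b).dedup.length ≤ 8)) = true := by
  decide +kernel

theorem codes_nodup : codes.Nodup := by decide +kernel

theorem codes_perm : (codes.all fun a => ((List.range 8).map (dig a)).Nodup) = true := by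
  decide +kernel

end Cfsg.Agent.KnownA.AltSect
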