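import Cfsg.Agent.Lib.KnownA.AltSect.Lift

/-!
Alternating sections ruled out by the fusion in an abelian subgroup: an element of order eleven, and
commuting elements of orders seven and five.
-/

set_option autoImplicit false
set_option linter.all false
set_option maxRecDepth 4000

namespace Cfsg.Agent.KnownA.AltSect

variable {G : Type*} [Group G] [Finite G]

/-- The possible actions of a normalizing element on a subgroup of the torus. -/
def TorusAction (T : Subgroup G) : Prop :=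
  ∀ S : Subgroup G, S ≤ T → ∀ h : G, (∀ s ∈ S, h * s * h⁻¹ ∈ S) →
    (∀ s ∈ S, h ^ 8 * s * (h ^ 8)⁻¹ = s) ∨ (∀ s ∈ S, h ^ 6 * s * (h ^ 6)⁻¹ = s) ∨
      ∀ s ∈ S, h ^ 6 * s * (h ^ 6)⁻¹ = s⁻¹

theorem TorusAction.pow24 {T : Subgroup G} (hW : TorusAction T) {S : Subgroup G} (hS : S ≤ T) {h : G}
    (hh : ∀ s ∈ S, h * s * h⁻¹ ∈ S) : ∀ s ∈ S, h ^ 24 * s * (h ^ 24)⁻¹ = s := by
  intro s hs
  rcases hW S hS h hh with h8 | h6 | h6
  · have e : h ^ 24 * s * (h ^ 24)⁻¹ =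
        h ^ 8 * (h ^ 8 * (h ^ 8 * s * (h ^ 8)⁻¹) * (h ^ 8)⁻¹) * (h ^ 8)⁻¹ := by
      rw [show h ^ 24 = h ^ 8 * h ^ 8 * h ^ 8 by rw [← pow_add, ← pow_add]]; group
    rw [e, h8 s hs, h8 s hs, h8 s hs]
  · have e : h ^ 24 * s * (h ^ 24)⁻¹ =
        h ^ 6 * (h ^ 6 * (h ^ 6 * (h ^ 6 * s * (h ^ 6)⁻¹) * (h ^ 6)⁻¹) * (h ^ 6)⁻¹) * (h ^ 6)⁻¹ := by
      rw [show h ^ 24 = h ^ 6 * h ^ 6 * h ^ 6 * h ^ 6 by rw [← pow_add, ← pow_add, ← pow_add]]; group
    rw [e, h6 s hs, h6 s hs, h6 s hs, h6 s hs]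
  · have e : h ^ 24 * s * (h ^ 24)⁻¹ =
        h ^ 6 * (h ^ 6 * (h ^ 6 * (h ^ 6 * s * (h ^ 6)⁻¹) * (h ^ 6)⁻¹) * (h ^ 6)⁻¹) * (h ^ 6)⁻¹ := by
      rw [show h ^ 24 = h ^ 6 * h ^ 6 * h ^ 6 * h ^ 6 by rw [← pow_add, ← pow_add, ← pow_add]]; group
    rw [e, h6 s hs, h6 _ (inv_mem hs), inv_inv, h6 s hs, h6 _ (inv_mem hs), inv_inv]

theorem conj_iter {A : Type*} [Group A] {u c : A} {a : ℕ} (h : u * c * u⁻¹ = c ^ a) :
    ∀ k : ℕ, u ^ k * c * (u ^ k)⁻¹ = c ^ (a ^ k) := by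
  intro k
  induction k with
  | zero => simp
  | succ k ih =>
    calc u ^ (k + 1) * c * (u ^ (k + 1))⁻¹ = u * (u ^ k * c * (u ^ k)⁻¹) * u⁻¹ := by
          rw [pow_succ']; group
      _ = (u * c * u⁻¹) ^ (a ^ k) := by rw [ih, conj_pow]
      _ = c ^ (a ^ (k + 1)) := by rw [h, ← pow_mul, pow_succ']

section eleven

/-- An eleven-cycle. -/
def c11 : Equiv.Perm (Fin 11) := finRotate 11

/-- A permutation of order five normalizing the eleven-cycle. -/
def y11 : Equiv.Perm (Fin 11) where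
  toFun i := 3 * i
  invFun i := 4 * i
  left_inv := by decide
  right_inv := by decide

theorem no_eleven {H : Type*} [Group H] [Finite H] (φ : H →* G) (hφ : Function.Injective φ)
    (T : Subgroup G) (hidx : ¬ 11 ∣ T.index) (hW : TorusAction T) (r : ℕ)
    (f : H →* ↥(alternatingGroup (Fin r))) (hf : Function.Surjective f) : r ≤ 10 := by
  classical
  by_contra hr
  push Not at hr
  haveI : Fact (Nat.Prime 11) := ⟨by norm_num⟩
  let ι : Fin 11 → Fin r := Fin.castLE (by omega)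
  let em : Fin 11 ≃ {x : Fin r // x ∈ Set.range ι} := Equiv.ofInjective ι (Fin.castLE_injective _)
  let E : Equiv.Perm (Fin 11) →* Equiv.Perm (Fin r) := Equiv.Perm.extendDomainHom em
  have hE : ∀ σ, Equiv.Perm.sign (E σ) = Equiv.Perm.sign σ := fun σ =>
    Equiv.Perm.sign_extendDomain σ em
  let cA : ↥(alternatingGroup (Fin r)) := ⟨E c11, by
    rw [Equiv.Perm.mem_alternatingGroup, hE]; decide⟩
  let yA : ↥(alternatingGroup (Fin r)) := ⟨E y11, by
    rw [Equiv.Perm.mem_alternatingGroup, hE]; decide⟩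
  have hcy : yA * cA * yA⁻¹ = cA ^ 3 := by
    apply Subtype.ext
    show E y11 * E c11 * (E y11)⁻¹ = E c11 ^ 3
    rw [← map_mul, ← map_inv, ← map_mul, ← map_pow]
    exact congrArg E (by decide)
  have hc11 : cA ^ 11 = 1 := by
    apply Subtype.ext
    show E c11 ^ 11 = 1
    rw [← map_pow, show c11 ^ 11 = 1 by decide, map_one]
  have hc1 : cA ≠ 1 := by
    intro h
    have h' : E c11 = E 1 := by rw [map_one]; exact congrArg Subtype.val h
    exact absurd (Equiv.Perm.extendDomainHom_injective em h') (by decide)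
  have hord : orderOf cA = 11 := orderOf_eq_prime hc11 hc1
  set C : Subgroup ↥(alternatingGroup (Fin r)) := Subgroup.zpowers cA with hC
  set H0 : Subgroup H := C.comap f with hH0
  obtain ⟨y, hy⟩ := hf yA
  have hnorm : ∀ x ∈ H0, y * x * y⁻¹ ∈ H0 := by
    intro x hx
    obtain ⟨j, hj⟩ := Subgroup.mem_zpowers_iff.1 (show f x ∈ C from hx)
    show f (y * x * y⁻¹) ∈ C
    rw [map_mul, map_mul, map_inv, hy, ← hj, ← conj_zpow, hcy]
    exact zpow_mem (pow_mem (Subgroup.mem_zpowers cA) 3) j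
  obtain ⟨Ps⟩ : Nonempty (Sylow 11 ↥H0) := inferInstance
  obtain ⟨a, ha, haP⟩ := exists_lift f _ Ps rfl y hnorm
  have hmap : H0.map f = C := Subgroup.map_comap_eq_self_of_surjective hf C
  obtain ⟨p, hp, hpc⟩ := exists_preimage f Ps cA (by rw [hmap]; exact Subgroup.mem_zpowers cA)
    (by rw [hmap]; intro x hx; obtain ⟨i, rfl⟩ := Subgroup.mem_zpowers_iff.1 hx
        exact (Commute.refl cA).zpow_left i)
    (IsPGroup.of_card (n := 1) (by rw [Nat.card_zpowers, hord, pow_one]))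
  set P := (Ps : Subgroup ↥H0).map H0.subtype with hP
  have hPG : IsPGroup 11 ↥(P.map φ) := (Ps.isPGroup'.map _).map _
  obtain ⟨g, -, hg⟩ := exists_into T hidx ⊤ le_top (P.map φ) le_top hPG
  set S := (P.map φ).map (MulAut.conj g).toMonoidHom with hS
  have hST : S ≤ T := by
    rintro _ ⟨x, hx, rfl⟩
    exact hg x hx
  set h := g * φ (a * y) * g⁻¹ with hh
  have hnS : ∀ s ∈ S, h * s * h⁻¹ ∈ S := by
    rintro _ ⟨_, ⟨x, hx, rfl⟩, rfl⟩
    exact ⟨_, ⟨_, haP x hx, rfl⟩, by simp [hh, mul_assoc]⟩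
  have key := hW.pow24 hST hnS (g * φ p * g⁻¹) ⟨_, ⟨p, hp, rfl⟩, rfl⟩
  have key' : (a * y) ^ 24 * p * ((a * y) ^ 24)⁻¹ = p := by
    apply hφ
    rw [hh, conj_pow] at key
    have h := congrArg (fun z => g⁻¹ * z * g) key
    simpa [mul_assoc] using h
  obtain ⟨j, hj⟩ := Subgroup.mem_zpowers_iff.1 (show f a ∈ C from ha)
  have h1 : f (a * y) * cA * (f (a * y))⁻¹ = cA ^ 3 := by
    rw [map_mul, hy, ← hj]
    calc cA ^ j * yA * cA * (cA ^ j * yA)⁻¹ = cA ^ j * (yA * cA * yA⁻¹) * (cA ^ j)⁻¹ := by group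
      _ = cA ^ 3 := by rw [hcy]; group
  have h := congrArg f key'
  rw [map_mul, map_mul, map_inv, map_pow, hpc, conj_iter h1] at h
  have h2 : cA ^ (3 ^ 24) = cA ^ 1 := by rw [h, pow_one]
  have := pow_eq_pow_iff_modEq.1 h2
  rw [hord] at this
  exact absurd this (by decide)

end eleven

section pair

/-- A seven-cycle on twelve points. -/
def c12 : Equiv.Perm (Fin 12) where
  toFun := ![1, 2, 3, 4, 5, 6, 0, 7, 8, 9, 10, 11]
  invFun := ![6, 0, 1, 2, 3, 4, 5, 7, 8, 9, 10, 11]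
  left_inv := by decide
  right_inv := by decide

/-- A five-cycle on twelve points. -/
def d12 : Equiv.Perm (Fin 12) where
  toFun := ![0, 1, 2, 3, 4, 5, 6, 8, 9, 10, 11, 7]
  invFun := ![0, 1, 2, 3, 4, 5, 6, 11, 7, 8, 9, 10]
  left_inv := by decide
  right_inv := by decide

/-- An even permutation inducing generators on both cycles. -/
def y12 : Equiv.Perm (Fin 12) where
  toFun := ![0, 3, 6, 2, 5, 1, 4, 7, 9, 11, 8, 10]
  invFun := ![0, 5, 3, 1, 6, 4, 2, 7, 10, 8, 11, 9]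
  left_inv := by decide
  right_inv := by decide

theorem no_pair {H : Type*} [Group H] [Finite H] (φ : H →* G) (hφ : Function.Injective φ)
    (T : Subgroup G) (hT : ∀ s ∈ T, ∀ t ∈ T, s * t = t * s) (h7 : ¬ 7 ∣ T.index) (h5 : ¬ 5 ∣ T.index)
    (hW : TorusAction T) (r : ℕ)
    (f : H →* ↥(alternatingGroup (Fin r))) (hf : Function.Surjective f) : r ≤ 11 := by
  classical
  by_contra hr
  push Not at hr
  haveI : Fact (Nat.Prime 7) := ⟨by norm_num⟩
  haveI : Fact (Nat.Prime 5) := ⟨by norm_num⟩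
  let ι : Fin 12 → Fin r := Fin.castLE (by omega)
  let em : Fin 12 ≃ {x : Fin r // x ∈ Set.range ι} := Equiv.ofInjective ι (Fin.castLE_injective _)
  let E : Equiv.Perm (Fin 12) →* Equiv.Perm (Fin r) := Equiv.Perm.extendDomainHom em
  have hEi : Function.Injective E := Equiv.Perm.extendDomainHom_injective em
  have hE : ∀ σ, Equiv.Perm.sign σ = 1 → E σ ∈ alternatingGroup (Fin r) := fun σ h => by
    rw [Equiv.Perm.mem_alternatingGroup]
    exact (Equiv.Perm.sign_extendDomain σ em).trans h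
  let cA : ↥(alternatingGroup (Fin r)) := ⟨E c12, hE _ (by decide)⟩
  let dA : ↥(alternatingGroup (Fin r)) := ⟨E d12, hE _ (by decide)⟩
  let yA : ↥(alternatingGroup (Fin r)) := ⟨E y12, hE _ (by decide)⟩
  have lift : ∀ {σ τ : Equiv.Perm (Fin 12)} {u v : ↥(alternatingGroup (Fin r))},
      (u : Equiv.Perm (Fin r)) = E σ → (v : Equiv.Perm (Fin r)) = E τ → σ = τ → u = v := by
    intro σ τ u v hu hv h
    exact Subtype.ext (by rw [hu, hv, h])
  have hcy : yA * cA * yA⁻¹ = cA ^ 3 :=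
    lift (σ := y12 * c12 * y12⁻¹) (τ := c12 ^ 3) (by simp [yA, cA]) (by simp [cA]) (by decide)
  have hdy : yA * dA * yA⁻¹ = dA ^ 2 :=
    lift (σ := y12 * d12 * y12⁻¹) (τ := d12 ^ 2) (by simp [yA, dA]) (by simp [dA]) (by decide)
  have hcd : Commute cA dA :=
    lift (σ := c12 * d12) (τ := d12 * c12) (by simp [cA, dA]) (by simp [cA, dA]) (by decide)
  have hc7 : cA ^ 7 = 1 := lift (σ := c12 ^ 7) (τ := 1) (by simp [cA]) (by simp) (by decide)
  have hd5 : dA ^ 5 = 1 := lift (σ := d12 ^ 5) (τ := 1) (by simp [dA]) (by simp) (by decide)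
  have hc1 : cA ≠ 1 := fun h => by
    have h' : E c12 = E 1 := by rw [map_one]; exact congrArg Subtype.val h
    exact absurd (hEi h') (by decide)
  have hd1 : dA ≠ 1 := fun h => by
    have h' : E d12 = E 1 := by rw [map_one]; exact congrArg Subtype.val h
    exact absurd (hEi h') (by decide)
  have hoc : orderOf cA = 7 := orderOf_eq_prime hc7 hc1
  have hod : orderOf dA = 5 := orderOf_eq_prime hd5 hd1
  -- the subgroups
  set C : Subgroup ↥(alternatingGroup (Fin r)) := Subgroup.zpowers cA with hC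
  set H0 : Subgroup H := C.comap f with hH0
  obtain ⟨Ps⟩ : Nonempty (Sylow 7 ↥H0) := inferInstance
  set P := (Ps : Subgroup ↥H0).map H0.subtype with hP
  set N1 : Subgroup H := Subgroup.normalizer (P : Set H) with hN1
  have hnorm : ∀ {z : H} {u : ↥(alternatingGroup (Fin r))} {k : ℕ}, f z = u →
      u * cA * u⁻¹ = cA ^ k → ∀ x ∈ H0, z * x * z⁻¹ ∈ H0 := by
    intro z u k hz hu x hx
    obtain ⟨j, hj⟩ := Subgroup.mem_zpowers_iff.1 (show f x ∈ C from hx)
    show f (z * x * z⁻¹) ∈ C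
    rw [map_mul, map_mul, map_inv, hz, ← hj, ← conj_zpow, hu]
    exact zpow_mem (pow_mem (Subgroup.mem_zpowers cA) k) j
  have hN : ∀ z : H, (∀ x ∈ P, z * x * z⁻¹ ∈ P) → z ∈ N1 := by
    intro z hz
    have hle : P.map (MulAut.conj z).toMonoidHom ≤ P := by
      rintro _ ⟨x, hx, rfl⟩
      exact hz x hx
    have heq := Subgroup.eq_of_le_of_card_ge hle
      (Subgroup.card_map_of_injective (MulAut.conj z).injective).ge
    refine Subgroup.mem_normalizer_iff.2 fun x => ⟨hz x, fun hx => ?_⟩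
    rw [← heq] at hx
    obtain ⟨w, hw, hwe⟩ := hx
    exact (MulAut.conj z).injective hwe ▸ hw
  obtain ⟨zd, hzd⟩ := hf dA
  obtain ⟨a, ha, haP⟩ := exists_lift f _ Ps rfl zd (hnorm (k := 1) hzd (by
    rw [pow_one, ← hcd.eq, mul_inv_cancel_right]))
  obtain ⟨zy, hzy⟩ := hf yA
  obtain ⟨a', ha', haP'⟩ := exists_lift f _ Ps rfl zy (hnorm hzy hcy)
  obtain ⟨i, hi⟩ := Subgroup.mem_zpowers_iff.1 (show f a ∈ C from ha)
  obtain ⟨i', hi'⟩ := Subgroup.mem_zpowers_iff.1 (show f a' ∈ C from ha')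
  -- the abelian subgroup generated by the two cycles
  set CD : Subgroup ↥(alternatingGroup (Fin r)) := Subgroup.closure {cA, dA} with hCD
  have hcCD : cA ∈ CD := Subgroup.subset_closure (by simp)
  have hdCD : dA ∈ CD := Subgroup.subset_closure (by simp)
  have hcomm : ∀ x ∈ CD, Commute x dA ∧ Commute x cA := by
    intro x hx
    induction hx using Subgroup.closure_induction with
    | mem x hx =>
      rcases hx with rfl | hx
      · exact ⟨hcd, Commute.refl _⟩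
      · rw [Set.mem_singleton_iff] at hx
        subst hx
        exact ⟨Commute.refl _, hcd.symm⟩
    | one => exact ⟨Commute.one_left _, Commute.one_left _⟩
    | mul x y _ _ hx hy => exact ⟨hx.1.mul_left hy.1, hx.2.mul_left hy.2⟩
    | inv x _ hx => exact ⟨hx.1.inv_left, hx.2.inv_left⟩
  set H1 : Subgroup H := CD.comap f ⊓ N1 with hH1
  set y1 := a' * zy with hy1
  have hfy1 : f y1 = cA ^ i' * yA := by rw [hy1, map_mul, hzy, hi']
  have hy1c : f y1 * cA * (f y1)⁻¹ = cA ^ 3 := by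
    rw [hfy1]
    calc cA ^ i' * yA * cA * (cA ^ i' * yA)⁻¹ = cA ^ i' * (yA * cA * yA⁻¹) * (cA ^ i')⁻¹ := by group
      _ = cA ^ 3 := by rw [hcy]; group
  have hy1d : f y1 * dA * (f y1)⁻¹ = dA ^ 2 := by
    rw [hfy1]
    calc cA ^ i' * yA * dA * (cA ^ i' * yA)⁻¹ = cA ^ i' * (yA * dA * yA⁻¹) * (cA ^ i')⁻¹ := by group
      _ = dA ^ 2 := by
        rw [hdy, ((hcd.zpow_left i').pow_right 2).eq, mul_inv_cancel_right]
  have hy1N : y1 ∈ N1 := hN y1 haP'
  have hnorm1 : ∀ x ∈ H1, y1 * x * y1⁻¹ ∈ H1 := by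
    intro x hx
    refine Subgroup.mem_inf.2 ⟨?_, mul_mem (mul_mem hy1N hx.2) (inv_mem hy1N)⟩
    show f (y1 * x * y1⁻¹) ∈ CD
    rw [map_mul, map_mul, map_inv]
    have hx' : f x ∈ CD := hx.1
    have hle : CD ≤ CD.comap (MulAut.conj (f y1)).toMonoidHom := by
      rw [hCD, Subgroup.closure_le]
      rintro z (rfl | hz)
      · show f y1 * cA * (f y1)⁻¹ ∈ CD
        rw [hy1c]; exact pow_mem hcCD 3
      · rw [Set.mem_singleton_iff] at hz
        subst hz
        show f y1 * dA * (f y1)⁻¹ ∈ CD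
        rw [hy1d]; exact pow_mem hdCD 2
    exact hle hx'
  obtain ⟨Qs⟩ : Nonempty (Sylow 5 ↥H1) := inferInstance
  set Q := (Qs : Subgroup ↥H1).map H1.subtype with hQ
  have hdmem : dA ∈ H1.map f := by
    obtain ⟨zc, hzc, hzc'⟩ : ∃ zc ∈ P, f zc = cA := by
      have hmap : H0.map f = C := Subgroup.map_comap_eq_self_of_surjective hf C
      exact exists_preimage f Ps cA (by rw [hmap]; exact Subgroup.mem_zpowers cA)
        (by rw [hmap]; intro x hx; obtain ⟨i, rfl⟩ := Subgroup.mem_zpowers_iff.1 hx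
            exact (Commute.refl cA).zpow_left i)
        (IsPGroup.of_card (n := 1) (by rw [Nat.card_zpowers, hoc, pow_one]))
    refine ⟨zc ^ (-i) * (a * zd), Subgroup.mem_inf.2 ⟨?_, mul_mem (zpow_mem (Subgroup.le_normalizer hzc) _) (hN _ haP)⟩, ?_⟩
    · show f (zc ^ (-i) * (a * zd)) ∈ CD
      rw [map_mul, map_mul, map_zpow, hzc', hzd, ← hi]
      exact mul_mem (zpow_mem hcCD _) (mul_mem (zpow_mem hcCD _) hdCD)
    · rw [map_mul, map_mul, map_zpow, hzc', hzd, ← hi, ← mul_assoc, ← zpow_add, neg_add_cancel,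
        zpow_zero, one_mul]
  obtain ⟨q, hq, hqd⟩ := exists_preimage f Qs dA hdmem
    (fun x hx => by
      obtain ⟨z, hz, rfl⟩ := hx
      exact (hcomm _ hz.1).1)
    (IsPGroup.of_card (n := 1) (by rw [Nat.card_zpowers, hod, pow_one]))
  obtain ⟨b, hb, hbQ⟩ := exists_lift f _ Qs rfl y1 hnorm1
  set y2 := b * y1 with hy2
  have hy2N : y2 ∈ N1 := mul_mem hb.2 hy1N
  have hy2P : ∀ x ∈ P, y2 * x * y2⁻¹ ∈ P := fun x hx => (Subgroup.mem_normalizer_iff.1 hy2N x).1 hx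
  have hy2c : f y2 * cA * (f y2)⁻¹ = cA ^ 3 := by
    rw [hy2, map_mul]
    calc f b * f y1 * cA * (f b * f y1)⁻¹ = f b * (f y1 * cA * (f y1)⁻¹) * (f b)⁻¹ := by group
      _ = cA ^ 3 := by rw [hy1c, ((hcomm _ hb.1).2.pow_right 3).eq, mul_inv_cancel_right]
  have hy2d : f y2 * dA * (f y2)⁻¹ = dA ^ 2 := by
    rw [hy2, map_mul]
    calc f b * f y1 * dA * (f b * f y1)⁻¹ = f b * (f y1 * dA * (f y1)⁻¹) * (f b)⁻¹ := by group
      _ = dA ^ 2 := by rw [hy1d, ((hcomm _ hb.1).1.pow_right 2).eq, mul_inv_cancel_right]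
  obtain ⟨p, hp, hpc⟩ := by
    have hmap : H0.map f = C := Subgroup.map_comap_eq_self_of_surjective hf C
    exact exists_preimage f Ps cA (by rw [hmap]; exact Subgroup.mem_zpowers cA)
      (by rw [hmap]; intro x hx; obtain ⟨i, rfl⟩ := Subgroup.mem_zpowers_iff.1 hx
          exact (Commute.refl cA).zpow_left i)
      (IsPGroup.of_card (n := 1) (by rw [Nat.card_zpowers, hoc, pow_one]))
  -- into the torus
  have hP7 : IsPGroup 7 ↥(P.map φ) := (Ps.isPGroup'.map _).map _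
  obtain ⟨g1, -, hg1⟩ := exists_into T h7 ⊤ le_top (P.map φ) le_top hP7
  set P' := (P.map φ).map (MulAut.conj g1).toMonoidHom with hP'
  set Q' := (Q.map φ).map (MulAut.conj g1).toMonoidHom with hQ'
  have hP'T : P' ≤ T := by rintro _ ⟨x, hx, rfl⟩; exact hg1 x hx
  have hQN : Q ≤ N1 := fun x hx => by
    obtain ⟨z, -, rfl⟩ := hx
    exact z.2.2
  have hQ'5 : IsPGroup 5 ↥Q' := ((Qs.isPGroup'.map _).map _).map _
  have hQC : Q' ≤ Subgroup.centralizer (P' : Set G) := by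
    intro x hx
    have hx' : ∀ s ∈ P', x * s * x⁻¹ ∈ P' := by
      obtain ⟨_, ⟨z, hz, rfl⟩, rfl⟩ := hx
      rintro _ ⟨_, ⟨s, hs, rfl⟩, rfl⟩
      exact ⟨_, ⟨_, (Subgroup.mem_normalizer_iff.1 (hQN hz) s).1 hs, rfl⟩, by simp [mul_assoc]⟩
    have h24 := hW.pow24 hP'T hx'
    obtain ⟨k, hk⟩ := hQ'5 ⟨x, hx⟩
    have hk' : x ^ 5 ^ k = 1 := congrArg Subtype.val hk
    have hcop : Nat.Coprime 24 (5 ^ k) := Nat.Coprime.pow_right k (by norm_num)
    obtain ⟨m, hm⟩ := exists_pow_eq_self_of_coprime (x := x) (n := 24)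
      (Nat.Coprime.coprime_dvd_right (orderOf_dvd_of_pow_eq_one hk') hcop)
    have hx24 : (x ^ 24) ^ m = x := hm
    rw [Subgroup.mem_centralizer_iff]
    intro s hs
    have hc : Commute (x ^ 24) s := mul_inv_eq_iff_eq_mul.1 (h24 s hs)
    have := (hc.pow_left m).eq
    rw [hx24] at this
    exact this.symm
  obtain ⟨g2, hg2, hg2Q⟩ := exists_into T h5 (Subgroup.centralizer (P' : Set G))
    (fun t ht => Subgroup.mem_centralizer_iff.2 fun s hs => hT s (hP'T hs) t ht) Q' hQC hQ'5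
  set g := g2 * g1 with hg
  set S := ((P ⊔ Q).map φ).map (MulAut.conj g).toMonoidHom with hS
  have hST : S ≤ T := by
    rw [hS, Subgroup.map_sup, Subgroup.map_sup, sup_le_iff]
    constructor
    · rintro _ ⟨x, hx, rfl⟩
      have h1 := hg1 x hx
      have h2 : g2 * (g1 * x * g1⁻¹) = g1 * x * g1⁻¹ * g2 :=
        (Subgroup.mem_centralizer_iff.1 hg2 _ ⟨x, hx, rfl⟩).symm
      have e : g * x * g⁻¹ = g1 * x * g1⁻¹ := by
        calc g * x * g⁻¹ = g2 * (g1 * x * g1⁻¹) * g2⁻¹ := by rw [hg]; group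
          _ = _ := by rw [h2, mul_inv_cancel_right]
      show g * x * g⁻¹ ∈ T
      rw [e]; exact h1
    · rintro _ ⟨x, hx, rfl⟩
      have := hg2Q (g1 * x * g1⁻¹) ⟨x, hx, rfl⟩
      show g * x * g⁻¹ ∈ T
      convert this using 1
      rw [hg]; group
  set h := g * φ y2 * g⁻¹ with hh
  have hnS : ∀ s ∈ S, h * s * h⁻¹ ∈ S := by
    have hle : P ⊔ Q ≤ (P ⊔ Q).comap (MulAut.conj y2).toMonoidHom :=
      sup_le (fun x hx => Subgroup.mem_sup_left (hy2P x hx))
        (fun x hx => Subgroup.mem_sup_right (hbQ x hx))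
    rintro _ ⟨_, ⟨x, hx, rfl⟩, rfl⟩
    exact ⟨_, ⟨_, hle hx, rfl⟩, by simp [hh, mul_assoc]⟩
  have back : ∀ (k : ℕ) (z v : H), z ∈ P ⊔ Q → h ^ k * (g * φ z * g⁻¹) * (h ^ k)⁻¹ = g * φ v * g⁻¹ →
      f y2 ^ k * f z * (f y2 ^ k)⁻¹ = f v := by
    intro k z v _ e
    have e' : y2 ^ k * z * (y2 ^ k)⁻¹ = v := by
      apply hφ
      rw [hh, conj_pow] at e
      have h := congrArg (fun w => g⁻¹ * w * g) e
      simpa [mul_assoc] using h
    simpa using congrArg f e'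
  have hpS : g * φ p * g⁻¹ ∈ S := ⟨_, ⟨p, Subgroup.mem_sup_left hp, rfl⟩, rfl⟩
  have hqS : g * φ q * g⁻¹ ∈ S := ⟨_, ⟨q, Subgroup.mem_sup_right hq, rfl⟩, rfl⟩
  rcases hW S hST h hnS with h8 | h6 | h6
  · have e := back 8 p p (Subgroup.mem_sup_left hp) (h8 _ hpS)
    rw [hpc, conj_iter hy2c] at e
    have := pow_eq_pow_iff_modEq.1 (e.trans (pow_one cA).symm)
    rw [hoc] at this
    exact absurd this (by decide)
  · have e := back 6 q q (Subgroup.mem_sup_right hq) (h6 _ hqS)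
    rw [hqd, conj_iter hy2d] at e
    have := pow_eq_pow_iff_modEq.1 (e.trans (pow_one dA).symm)
    rw [hod] at this
    exact absurd this (by decide)
  · have e := back 6 p p⁻¹ (Subgroup.mem_sup_left hp) (by rw [h6 _ hpS, map_inv]; group)
    rw [map_inv, hpc, conj_iter hy2c] at e
    have e2 : cA ^ (3 ^ 6 + 1) = 1 := by rw [pow_succ, e, inv_mul_cancel]
    have := orderOf_dvd_of_pow_eq_one e2
    rw [hoc] at this
    exact absurd this (by decide)

end pair

end Cfsg.Agent.KnownA.AltSect
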