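import Cfsg.Agent.Lib.KnownA.AltSect.F4Torus
import Cfsg.Agent.Lib.Chev.Map

/-!
Alternating sections of the groups of type F4, moved into a field with enough units.
-/

set_option autoImplicit false
set_option linter.all false

namespace Cfsg.Agent.KnownA.AltSect

open Cfsg.Lie Cfsg.Agent.Lib.Chev

theorem pow120_mod {ℓ q : ℕ} (hℓ : ℓ.Prime) (hdvd : ℓ - 1 ∣ 120) (hq : ¬ ℓ ∣ q) : q ^ 120 % ℓ = 1 := by
  haveI : Fact ℓ.Prime := ⟨hℓ⟩
  obtain ⟨k, hk⟩ := hdvd
  have h0 : (q : ZMod ℓ) ≠ 0 := by rwa [Ne, CharP.cast_eq_zero_iff (ZMod ℓ) ℓ]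
  have h1 : ((q ^ 120 : ℕ) : ZMod ℓ) = ((1 : ℕ) : ZMod ℓ) := by
    rw [hk]
    push_cast
    rw [pow_mul, ZMod.pow_card_sub_one_eq_one h0, one_pow]
  have := congrArg ZMod.val h1
  rw [ZMod.val_natCast, ZMod.val_natCast, Nat.one_mod_eq_one.2 hℓ.one_lt.ne'] at this
  exact this

theorem F4_sections {F : Type*} [Field F] [Fintype F] (p : ℕ) [Fact p.Prime] [CharP F p]
    (r : ℕ) (H : Subgroup ↥(chevF4.group F)) (K : Subgroup ↥H) [K.Normal]
    (iso : ↥H ⧸ K ≃* ↥(alternatingGroup (Fin r))) : r ≤ 10 + (if p = 11 then 1 else 0) := by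
  classical
  let L := FiniteField.Extension F p 120
  letI : Fintype L := Fintype.ofFinite _
  let ρ : F →+* L := algebraMap F L
  let em : GL chevF4.Idx F →* GL chevF4.Idx L := Units.map ρ.mapMatrix.toMonoidHom
  have hem : Function.Injective em := by
    intro a b h
    refine Units.ext ?_
    have h' : ρ.mapMatrix (a : Matrix chevF4.Idx chevF4.Idx F) = ρ.mapMatrix (b : Matrix chevF4.Idx chevF4.Idx F) :=
      congrArg Units.val h
    exact Matrix.map_injective ρ.injective h'
  have hmap : ∀ g ∈ chevF4.group F, em g ∈ chevF4.group L := by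
    intro g hg
    induction hg using Subgroup.closure_induction with
    | mem g hg =>
      obtain ⟨r', t, hrt⟩ := hg
      refine Subgroup.subset_closure ⟨r', ρ t, ?_⟩
      show ρ.mapMatrix (g : Matrix chevF4.Idx chevF4.Idx F) = _
      rw [hrt]
      have hx := x_map (D := chevF4) ρ r'.val t
      unfold ChevalleyDatum.x at hx
      rw [dif_pos r'.isLt, dif_pos r'.isLt] at hx
      exact hx
    | one => rw [map_one]; exact one_mem _
    | mul x y _ _ hx hy => rw [map_mul]; exact mul_mem hx hy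
    | inv x _ hx => rw [map_inv]; exact inv_mem hx
  let φ0 : ↥(chevF4.group F) →* ↥(chevF4.group L) := (em.comp (chevF4.group F).subtype).codRestrict _
    fun g => hmap g g.2
  let φ : ↥H →* ↥(chevF4.group L) := φ0.comp H.subtype
  have hφ : Function.Injective φ := fun a b h =>
    Subtype.ext (Subtype.ext (hem (congrArg Subtype.val h)))
  let f : ↥H →* ↥(alternatingGroup (Fin r)) := iso.toMonoidHom.comp (QuotientGroup.mk' K)
  have hf : Function.Surjective f := iso.surjective.comp (QuotientGroup.mk'_surjective K)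
  have hcard : Fintype.card L = Fintype.card F ^ 120 := by
    rw [← Nat.card_eq_fintype_card, FiniteField.natCard_extension, Nat.card_eq_fintype_card]
  have hmod : ∀ ℓ : ℕ, ℓ.Prime → ℓ ≠ p → ℓ - 1 ∣ 120 → Fintype.card L % ℓ = 1 := by
    intro ℓ hℓ hne hd
    obtain ⟨n, hp, hn⟩ := FiniteField.card F p
    rw [hcard]
    refine pow120_mod hℓ hd fun h => hne ?_
    rw [hn] at h
    exact (Nat.prime_dvd_prime_iff_eq hℓ hp).1 (hℓ.dvd_of_dvd_pow h)
  split_ifs with h11
  · exact no_pair φ hφ _ torus_comm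
      (torus_index (by norm_num) (hmod 7 (by norm_num) (by omega) (by norm_num)) (by norm_num))
      (torus_index (by norm_num) (hmod 5 (by norm_num) (by omega) (by norm_num)) (by norm_num))
      torus_action r f hf
  · exact no_eleven φ hφ _
      (torus_index (by norm_num) (hmod 11 (by norm_num) (Ne.symm h11) (by norm_num)) (by norm_num))
      torus_action r f hf

end Cfsg.Agent.KnownA.AltSect
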