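import Cfsg.Agent.Lib.KnownA.AltSect.WF4Data
import Cfsg.Agent.Lib.KnownA.AltSect.Elevens
import Cfsg.Agent.Lib.Chev.Count
import Cfsg.Agent.Lib.Chev.DefectZero

/-!
The action of monomial elements on the torus of the group of type F4, fusion in the torus, and the
index of the torus modulo a prime dividing the number of units of the field.
-/

set_option autoImplicit false
set_option linter.all false
set_option maxRecDepth 100000

namespace Cfsg.Agent.KnownA.AltSect

open Cfsg.Lie Cfsg.Agent.Lib.Chev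

theorem cosL_len : cosL.length = 4 ∧ (cosF4_3.length = 24 ∧ cosF4_2.length = 8 ∧ cosF4_1.length = 3 ∧
    cosF4_0.length = 2) := by decide

theorem step_chk {k : ℕ} (hk : k < 4) : chkStep chevF4 tabF4 k (cosL.getD k []) = true := by
  have h := poinF4
  simp only [chkPoin, Bool.and_eq_true] at h
  exact allLt_eq_true h.1.2 k hk

theorem data_spec {k m : ℕ} (hk : k < 4) (hm : m < (cosL.getD k []).length) :
    IsWk (k + 1) (dW k m) ∧
    (∀ j < 4, wl tabF4 (dW k m) (sim chevF4 j) = (cget (cosL.getD k []) m).img.getD j 0) ∧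
    ∀ s < 48, dT k m s = wl tabF4 (dW k m) s := by
  have h := allLt_eq_true (allLt_eq_true data_chk k hk) m hm
  simp only [Bool.and_eq_true, List.all_eq_true, decide_eq_true_eq] at h
  exact ⟨h.1.1, fun j hj => by simpa using allLt_eq_true h.1.2 j hj,
    fun s hs => by simpa using allLt_eq_true h.2 s hs⟩

/-- Every element is a representative times an element of the smaller subgroup. -/
theorem cover_step {k : ℕ} (hk : k < 4) : ∀ l, IsWk (k + 1) l → ∃ m < (cosL.getD k []).length,
    ∃ u, IsWk k u ∧ ∀ s < 48, wl tabF4 l s = wl tabF4 (dW k m) (wl tabF4 u s) := by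
  have hstep := step_chk hk
  simp only [chkStep, Bool.and_eq_true, decide_eq_true_eq, beq_iff_eq] at hstep
  obtain ⟨⟨⟨⟨⟨_, hlen⟩, himg0⟩, _⟩, hall⟩, -⟩ := hstep
  have hlenimg : ∀ m < (cosL.getD k []).length, (cget (cosL.getD k []) m).img.length = 4 := fun m hm => by
    have := allLt_eq_true hall m hm
    simp only [Bool.and_eq_true, decide_eq_true_eq] at this
    exact this.1.1.1.1
  have hW : ∀ m < (cosL.getD k []).length, IsW chevF4 (dW k m) := fun m hm =>
    (data_spec hk hm).1.isW (show k + 1 ≤ 4 by omega)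
  have hd := fun m (hm : m < (cosL.getD k []).length) => (data_spec hk hm).2.1
  have gm : ∀ (L : List ℕ) (f : ℕ → ℕ) (j : ℕ), j < L.length → (L.map f).getD j 0 = f (L.getD j 0) := by
    intro L f j hj
    rw [List.getD_eq_getElem _ _ hj, List.getD_eq_getElem _ _ (by simpa using hj), List.getElem_map]
  intro l
  induction l with
  | nil =>
    intro _
    refine ⟨0, hlen, [], fun _ h => absurd h List.not_mem_nil, fun s hs => ?_⟩
    refine goodF4.wl_eq_of_simples isW_nil (hW 0 hlen) (fun j hj => ?_) hs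
    rw [hd 0 hlen j hj, himg0]
    simp only [wl]
    rw [List.getD_eq_getElem _ _ (by simpa using hj), List.getElem_map, List.getElem_range]
  | cons i l ih =>
    intro hl
    obtain ⟨m, hm, u, hu, he⟩ := ih fun x hx => hl x (List.mem_cons_of_mem _ hx)
    have hi : i < k + 1 := hl i List.mem_cons_self
    have hi' : i < 4 := by omega
    have hlW : IsW chevF4 l := fun x hx => by
      have := hl x (List.mem_cons_of_mem _ hx)
      show x < 4
      omega
    have hf := allLt_eq_true hall m hm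
    simp only [Bool.and_eq_true] at hf
    have hmove := allLt_eq_true hf.2 i hi
    have hiW : IsW chevF4 (i :: dW k m) := by
      intro x hx
      rcases List.mem_cons.1 hx with rfl | hx
      · exact hi'
      · exact hW m hm x hx
    split at hmove
    · rename_i ht
      simp only [beq_iff_eq] at hmove
      refine ⟨_, ht, u, hu, fun s hs => ?_⟩
      simp only [wl]
      rw [he s hs]
      have hu' : wl tabF4 u s < 48 := goodF4.wl_lt (hu.isW (show k ≤ 4 by omega)) hs
      refine goodF4.wl_eq_of_simples (l := i :: dW k m) hiW (hW _ ht) (fun j hj => ?_) hu'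
      simp only [wl]
      rw [hd m hm j hj, hd _ ht j hj]
      rw [← hmove, gm _ _ _ ((hlenimg m hm).symm ▸ hj)]
    · simp only [Bool.and_eq_true, decide_eq_true_eq] at hmove
      set j0 := ((cget (cosL.getD k []) m).mv.getD i 0) - (cosL.getD k []).length with hj0
      have hj0' : j0 < 4 := by omega
      refine ⟨m, hm, j0 :: u, ?_, fun s hs => ?_⟩
      · intro x hx
        rcases List.mem_cons.1 hx with rfl | hx
        · exact hmove.1
        · exact hu x hx
      simp only [wl]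
      rw [he s hs]
      have hu' : wl tabF4 u s < 48 := goodF4.wl_lt (hu.isW (show k ≤ 4 by omega)) hs
      have hsim : ∀ j < 4, sim chevF4 j < 48 := fun j hj => goodF4.sim_lt hj
      have e := goodF4.wl_eq_of_simples (l := i :: dW k m) (l' := dW k m ++ [j0]) hiW
        ((hW m hm).append (isW_single hj0')) (fun j hj => ?_) hu'
      · simpa [wl_append, wl] using e
      · refine goodF4.eq_of_k_eq (goodF4.wl_lt hiW (hsim j hj))
          (goodF4.wl_lt ((hW m hm).append (isW_single hj0')) (hsim j hj)) fun x hx => ?_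
        simp only [wl, wl_append]
        rw [hd m hm j hj]
        have hk2 := allLt_eq_true (allLt_eq_true hmove.2 j hj) x hx
        simp only [beq_iff_eq] at hk2
        rw [hk2, goodF4.k_wl_sum (hW m hm) (goodF4.w_lt hj0' (hsim j hj)) hx]
        have e2 : ∀ c ∈ Finset.range chevF4.rank,
            tabF4.k c (tabF4.w j0 (sim chevF4 j)) * tabF4.k x (wl tabF4 (dW k m) (sim chevF4 c)) =
              (if c = j then tabF4.k x ((cget (cosL.getD k []) m).img.getD c 0) else 0) -
                (if c = j0 then tabF4.A j0 (sim chevF4 j) * tabF4.k x ((cget (cosL.getD k []) m).img.getD c 0) else 0) := by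
          intro c hc
          have hc' : c < 4 := Finset.mem_range.1 hc
          rw [goodF4.k_w hj0' (hsim j hj) hc', goodF4.k_sim hj hc', hd m hm c hc']
          split_ifs <;> ring
        rw [Finset.sum_congr rfl e2, Finset.sum_sub_distrib, Finset.sum_ite_eq', Finset.sum_ite_eq']
        rw [if_pos (Finset.mem_range.2 (show j < chevF4.rank from hj)),
          if_pos (Finset.mem_range.2 (show j0 < chevF4.rank from hj0'))]

/-- The dichotomy for the powers of an element of the Weyl group. -/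
theorem weyl_powers {l : List ℕ} (hl : IsW chevF4 l) :
    (∀ s < 48, (wl tabF4 l)^[8] s = s) ∨ (∀ s < 48, (wl tabF4 l)^[6] s = s) ∨
      ∀ s < 48, (wl tabF4 l)^[6] s = ng chevF4 s := by
  obtain ⟨hlen, h3, h2, h1, h0⟩ := cosL_len
  have hlk : IsWk 4 l := hl
  obtain ⟨a, ha, u3, hu3, e3⟩ := cover_step (k := 3) (by norm_num) l hlk
  obtain ⟨b, hb, u2, hu2, e2⟩ := cover_step (k := 2) (by norm_num) u3 hu3
  obtain ⟨c, hc, u1, hu1, e1⟩ := cover_step (k := 1) (by norm_num) u2 hu2
  obtain ⟨d, hd, u0, hu0, e0⟩ := cover_step (k := 0) (by norm_num) u1 hu1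
  have hu0' : u0 = [] := List.eq_nil_iff_forall_not_mem.2 fun x hx => Nat.not_lt_zero _ (hu0 x hx)
  subst hu0'
  have lt : ∀ {k : ℕ} {u : List ℕ}, k ≤ 4 → IsWk k u → ∀ {s : ℕ}, s < 48 → wl tabF4 u s < 48 :=
    fun hk hu _ hs => goodF4.wl_lt (hu.isW hk) hs
  have e : ∀ s < 48, wl tabF4 l s = comb a b c d s := by
    intro s hs
    have hd' := data_spec (k := 0) (by norm_num) hd
    have hc' := data_spec (k := 1) (by norm_num) hc
    have hb' := data_spec (k := 2) (by norm_num) hb
    have ha' := data_spec (k := 3) (by norm_num) ha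
    rw [e3 s hs, e2 s hs, e1 s hs, e0 s hs, comb]
    simp only [wl]
    have l0 := lt (by norm_num) hd'.1 hs
    have l1 := lt (by norm_num) hc'.1 l0
    have l2 := lt (by norm_num) hb'.1 l1
    rw [hd'.2.2 s hs, hc'.2.2 _ l0, hb'.2.2 _ l1, ha'.2.2 _ l2]
  have hit : ∀ n, ∀ s < 48, (wl tabF4 l)^[n] s = (comb a b c d)^[n] s ∧ (wl tabF4 l)^[n] s < 48 := by
    intro n
    induction n with
    | zero => intro s hs; exact ⟨rfl, hs⟩
    | succ n ih =>
      intro s hs
      obtain ⟨h1', h2'⟩ := ih s hs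
      rw [Function.iterate_succ_apply', Function.iterate_succ_apply', ← h1', ← e _ h2']
      exact ⟨rfl, goodF4.wl_lt hl h2'⟩
  have word : ∀ n, ∀ s, (wl tabF4 l)^[n] s = wl tabF4 (List.replicate n l).flatten s := by
    intro n
    induction n with
    | zero => intro s; rfl
    | succ n ih =>
      intro s
      rw [Function.iterate_succ_apply', ih, List.replicate_succ, List.flatten_cons, wl_append]
  have hWn : ∀ n, IsW chevF4 (List.replicate n l).flatten := fun n x hx => by
    simp only [List.mem_flatten, List.mem_replicate] at hx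
    obtain ⟨_, ⟨_, rfl⟩, hx⟩ := hx
    exact hl x hx
  have hsim : ∀ j < 4, sim chevF4 j < 48 := fun j hj => goodF4.sim_lt hj
  have pure : ∀ n, (∀ j < 4, (wl tabF4 l)^[n] (sim chevF4 j) = sim chevF4 j) →
      ∀ s < 48, (wl tabF4 l)^[n] s = s := by
    intro n h s hs
    rw [word]
    exact goodF4.wl_eq_of_simples (l' := []) (hWn n) isW_nil
      (fun j hj => by rw [← word, h j hj]; rfl) hs
  have hchk := allLt_eq_true (allLt_eq_true (allLt_eq_true (allLt_eq_true pow_chk a
    (by simpa [cosL, h3] using ha)) b (by simpa [cosL, h2] using hb)) c (by simpa [cosL, h1] using hc)) d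
    (by simpa [cosL, h0] using hd)
  simp only [Bool.or_eq_true] at hchk
  rcases hchk with (h8 | h6) | h6
  · exact Or.inl (pure 8 fun j hj => by
      rw [(hit 8 _ (hsim j hj)).1]; simpa using allLt_eq_true h8 j hj)
  · exact Or.inr (Or.inl (pure 6 fun j hj => by
      rw [(hit 6 _ (hsim j hj)).1]; simpa using allLt_eq_true h6 j hj))
  · refine Or.inr (Or.inr fun s hs => ?_)
    rw [word]
    have hng : ∀ r < 48, ng chevF4 r < 48 := fun r hr => goodF4.ng_lt hr
    refine goodF4.eq_of_k_eq (goodF4.wl_lt (hWn 6) hs) (hng s hs) fun x hx => ?_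
    rw [goodF4.k_wl_sum (hWn 6) hs hx, goodF4.k_ng hs hx]
    have hj : ∀ j < 4, wl tabF4 (List.replicate 6 l).flatten (sim chevF4 j) = ng chevF4 (sim chevF4 j) :=
      fun j hj => by
        rw [← word, (hit 6 _ (hsim j hj)).1]; simpa using allLt_eq_true h6 j hj
    rw [Finset.sum_congr rfl (fun c hc => by
      rw [hj c (Finset.mem_range.1 hc), goodF4.k_ng (hsim c (Finset.mem_range.1 hc)) hx,
        goodF4.k_sim (Finset.mem_range.1 hc) hx])]
    rw [Finset.sum_eq_single x]
    · simp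
    · intro c _ hne; simp [Ne.symm hne]
    · intro h; exact absurd (Finset.mem_range.2 hx) h

variable {F : Type*} [Field F]

theorem act_pow {g : GL chevF4.Idx F} {f : ℕ → ℕ} (h : goodF4.Act F g f) :
    ∀ n, goodF4.Act F (g ^ n) f^[n]
  | 0 => by
    rw [pow_zero]
    exact goodF4.act_diag (one_mem _)
  | n + 1 => by
    rw [pow_succ', Function.iterate_succ']
    exact goodF4.act_mul h (act_pow h n)

/-- An element inverting all roots inverts the torus. -/
theorem conj_eq_inv {g : GL chevF4.Idx F} {f : ℕ → ℕ} (hg : g ∈ chevF4.monomialSubgroup F)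
    (ha : goodF4.Act F g f) (hf : ∀ s < 48, f s = ng chevF4 s) {h : GL chevF4.Idx F}
    (hh : h ∈ chevF4.diagonalSubgroup F) : g * h * g⁻¹ = h⁻¹ := by
  have hmem : g * h * g⁻¹ * h ∈ chevF4.diagonalSubgroup F :=
    mul_mem ((Subgroup.mem_normalizer_iff.1 (goodF4.monomial_le_normalizer hg) h).1 hh) hh
  obtain ⟨c, hc, hm⟩ := goodF4.exists_tor hh
  have hχ := goodF4.isChar_tor (F := F) fun i _ => hc i
  obtain ⟨d, hd, hm'⟩ := goodF4.exists_tor hmem
  have hχ' := goodF4.isChar_tor (F := F) fun i _ => hd i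
  suffices g * h * g⁻¹ * h = 1 from mul_eq_one_iff_eq_inv.1 this
  have one : ∀ r < chevF4.nroots, tor chevF4 tabF4 d r = 1 := by
    intro r hr
    have hn : ng chevF4 r < chevF4.nroots := goodF4.ng_lt hr
    obtain ⟨hlt, e, he, eg⟩ := ha (ng chevF4 r) hn
    have efr : f (ng chevF4 r) = r := by rw [hf _ hn, goodF4.ng_ng hr]
    rw [efr] at eg
    have h1 : ∀ t, g⁻¹ * goodF4.X F r t * g = goodF4.X F (ng chevF4 r) (t / e) := by
      intro t
      have := eg (t / e)
      rw [mul_div_cancel₀ _ he] at this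
      rw [← this]; group
    have key : g * h * g⁻¹ * h * goodF4.X F r 1 * (g * h * g⁻¹ * h)⁻¹ =
        goodF4.X F r (tor chevF4 tabF4 c (ng chevF4 r) * tor chevF4 tabF4 c r) := by
      calc g * h * g⁻¹ * h * goodF4.X F r 1 * (g * h * g⁻¹ * h)⁻¹
          = g * h * (g⁻¹ * (h * goodF4.X F r 1 * h⁻¹) * g) * h⁻¹ * g⁻¹ := by group
        _ = g * (h * goodF4.X F (ng chevF4 r) (tor chevF4 tabF4 c r * 1 / e) * h⁻¹) * g⁻¹ := by
          rw [goodF4.diag_conj_X hm hχ hr, h1]; group
        _ = _ := by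
          rw [goodF4.diag_conj_X hm hχ hn, eg]
          congr 1
          field_simp
    rw [goodF4.diag_conj_X hm' hχ' hr, hχ.neg r hr] at key
    simpa using goodF4.X_injective hr key
  refine Units.ext ?_
  rw [hm', Units.val_one, ← dmat_one]
  exact dmat_congr fun s hs => one s hs

theorem fusion_F4 {g : GL chevF4.Idx F} (hg : g ∈ chevF4.group F) :
    ∃ n, n ∈ chevF4.monomialSubgroup F ∧ ∀ t ∈ chevF4.diagonalSubgroup F,
      g * t * g⁻¹ ∈ chevF4.diagonalSubgroup F → g * t * g⁻¹ = n * t * n⁻¹ := by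
  obtain ⟨b, hb, n, l, hl, u₂, hu₂, rfl⟩ := goodF4.exists_normal_form hg
  obtain ⟨u₁, hu₁, d, hd, rfl⟩ := goodF4.mem_borel.1 hb
  have hn := goodF4.monomial_of_rep hl
  refine ⟨d * n, mul_mem (Good.diagonal_le_monomial hd) hn, fun t ht ht' => ?_⟩
  set t' := u₁ * d * n * u₂ * t * (u₁ * d * n * u₂)⁻¹ with ht'def
  have htn : ∀ x ∈ chevF4.diagonalSubgroup F, n * x * n⁻¹ ∈ chevF4.diagonalSubgroup F := fun x hx =>
    (Subgroup.mem_normalizer_iff.1 (goodF4.monomial_le_normalizer hn) _).1 hx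
  have huU' : t⁻¹ * u₂ * t ∈ goodF4.USub F (flipSet chevF4 tabF4 l) := by
    have := (Subgroup.mem_normalizer_iff.1 (goodF4.diag_normalizes _ (inv_mem ht)) _).1 hu₂
    simpa using this
  have hdn : d * (n * t * n⁻¹) ∈ chevF4.diagonalSubgroup F := mul_mem hd (htn t ht)
  have hb1 : t' * (u₁ * d) ∈ chevF4.borelSubgroup F := mul_mem (Subgroup.mem_sup_right ht') hb
  have hb2 : u₁ * (d * (n * t * n⁻¹)) ∈ chevF4.borelSubgroup F :=
    mul_mem (Subgroup.mem_sup_left hu₁) (Subgroup.mem_sup_right hdn)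
  have e : t' * (u₁ * d) * n * u₂ = u₁ * (d * (n * t * n⁻¹)) * n * (t⁻¹ * u₂ * t) := by
    rw [ht'def]; group
  obtain ⟨e1, -⟩ := goodF4.normal_form_unique hl hb1 hb2 hu₂ huU' e
  have hX : d * n * t * (d * n)⁻¹ ∈ chevF4.diagonalSubgroup F := by
    have := mul_mem hdn (inv_mem hd)
    convert this using 1
    group
  have h2 : u₁⁻¹ * t' * u₁ = d * n * t * (d * n)⁻¹ := by
    calc u₁⁻¹ * t' * u₁ = u₁⁻¹ * (t' * (u₁ * d)) * d⁻¹ := by group
      _ = _ := by rw [e1]; group
  have h3 : t'⁻¹ * u₁⁻¹ * t' * u₁ = t'⁻¹ * (d * n * t * (d * n)⁻¹) := by rw [← h2]; group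
  have h4 : t'⁻¹ * u₁⁻¹ * t' * u₁ = 1 := by
    have hp : t'⁻¹ * u₁⁻¹ * t' ∈ chevF4.posUnipotent F := by
      have := (Subgroup.mem_normalizer_iff.1 (goodF4.diag_normalizes_pos (inv_mem ht')) _).1 (inv_mem hu₁)
      simpa using this
    have hq : t'⁻¹ * u₁⁻¹ * t' * u₁ ∈ chevF4.diagonalSubgroup F := by
      rw [h3]; exact mul_mem (inv_mem ht') hX
    have hbot : t'⁻¹ * u₁⁻¹ * t' * u₁ ∈ chevF4.posUnipotent F ⊓ chevF4.diagonalSubgroup F :=
      Subgroup.mem_inf.2 ⟨mul_mem hp hu₁, hq⟩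
    rw [goodF4.pos_inf_diag] at hbot
    exact Subgroup.mem_bot.1 hbot
  exact inv_mul_eq_one.1 (h3.symm.trans h4)

theorem torus_action [Fintype F] : TorusAction ((chevF4.diagonalSubgroup F).subgroupOf (chevF4.group F)) := by
  intro S hS h hh
  obtain ⟨n, hn, hfus⟩ := fusion_F4 (g := (h : GL chevF4.Idx F)) h.2
  have iter : ∀ s ∈ S, ∀ k : ℕ, h ^ k * s * (h ^ k)⁻¹ ∈ S ∧
      ((h ^ k * s * (h ^ k)⁻¹ : ↥(chevF4.group F)) : GL chevF4.Idx F) =
        n ^ k * (s : GL chevF4.Idx F) * (n ^ k)⁻¹ := by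
    intro s hs k
    induction k with
    | zero => simp [hs]
    | succ k ih =>
      have e : h ^ (k + 1) * s * (h ^ (k + 1))⁻¹ = h * (h ^ k * s * (h ^ k)⁻¹) * h⁻¹ := by
        rw [pow_succ']; group
      rw [e]
      refine ⟨hh _ ih.1, ?_⟩
      have t := hfus _ (hS ih.1) (hS (hh _ ih.1))
      calc ((h * (h ^ k * s * (h ^ k)⁻¹) * h⁻¹ : ↥(chevF4.group F)) : GL chevF4.Idx F)
          = (h : GL chevF4.Idx F) * ((h ^ k * s * (h ^ k)⁻¹ : ↥(chevF4.group F)) : GL chevF4.Idx F) *
            (h : GL chevF4.Idx F)⁻¹ := rfl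
        _ = n * ((h ^ k * s * (h ^ k)⁻¹ : ↥(chevF4.group F)) : GL chevF4.Idx F) * n⁻¹ := t
        _ = _ := by rw [ih.2, pow_succ']; group
  obtain ⟨l, hl⟩ := goodF4.exists_rep hn
  have ha := goodF4.rep_act hl
  have hnk : ∀ k : ℕ, n ^ k ∈ chevF4.monomialSubgroup F := fun k => pow_mem hn k
  rcases weyl_powers hl.1 with h8 | h6 | h6
  · refine Or.inl fun s hs => Subtype.ext ?_
    rw [(iter s hs 8).2]
    exact mul_inv_eq_of_eq_mul (goodF4.diag_comm
      (goodF4.mem_diag_of_act_id (hnk 8) (act_pow ha 8) h8) (hS hs))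
  · refine Or.inr (Or.inl fun s hs => Subtype.ext ?_)
    rw [(iter s hs 6).2]
    exact mul_inv_eq_of_eq_mul (goodF4.diag_comm
      (goodF4.mem_diag_of_act_id (hnk 6) (act_pow ha 6) h6) (hS hs))
  · refine Or.inr (Or.inr fun s hs => Subtype.ext ?_)
    rw [(iter s hs 6).2]
    exact conj_eq_inv (hnk 6) (act_pow ha 6) h6 (hS hs)

theorem torus_comm [Fintype F] : ∀ s ∈ (chevF4.diagonalSubgroup F).subgroupOf (chevF4.group F),
    ∀ t ∈ (chevF4.diagonalSubgroup F).subgroupOf (chevF4.group F), s * t = t * s :=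
  fun _ hs _ ht => Subtype.ext (goodF4.diag_comm hs ht)

theorem torus_index [Fintype F] {ℓ : ℕ} (hℓ : ℓ.Prime) (h1 : Fintype.card F % ℓ = 1)
    (hdeg : ¬ ℓ ∣ 2 * 6 * 8 * 12) :
    ¬ ℓ ∣ ((chevF4.diagonalSubgroup F).subgroupOf (chevF4.group F)).index := by
  set T := (chevF4.diagonalSubgroup F).subgroupOf (chevF4.group F)
  set q := Fintype.card F with hq
  have hle : chevF4.diagonalSubgroup F ≤ chevF4.group F := fun x hx =>
    goodF4.borel_le_group (Subgroup.mem_sup_right hx)
  have hT : Nat.card ↥T = Nat.card ↥(chevF4.diagonalSubgroup F) :=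
    Nat.card_congr (Subgroup.subgroupOfEquivOfLe hle).toEquiv
  have hG := goodF4.card_group (F := F)
  rw [goodF4.card_borel, goodF4.card_pos, ← T.card_mul_index, hT] at hG
  have hidx : T.index = q ^ (chevF4.nroots / 2) * pW chevF4 tabF4 chevF4.rank q := by
    refine Nat.eq_of_mul_eq_mul_left (Nat.card_pos (α := ↥(chevF4.diagonalSubgroup F))) ?_
    rw [hG, hq]; ring
  have hq1 : 1 < q := Fintype.one_lt_card
  have hp := goodF4.poincare poinF4 q
  have hP : pW chevF4 tabF4 chevF4.rank q = (∑ i ∈ Finset.range 2, q ^ i) * (∑ i ∈ Finset.range 6, q ^ i) *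
      (∑ i ∈ Finset.range 8, q ^ i) * (∑ i ∈ Finset.range 12, q ^ i) := by
    have g : ∀ n : ℕ, ((q : ℤ) - 1) * (∑ i ∈ Finset.range n, (q : ℤ) ^ i) = (q : ℤ) ^ n - 1 :=
      fun n => mul_geom_sum (q : ℤ) n
    have hne : ((q : ℤ) - 1) ^ chevF4.rank ≠ 0 := pow_ne_zero _ (by omega)
    apply Nat.cast_injective (R := ℤ)
    refine mul_left_cancel₀ hne ?_
    push_cast
    rw [hp]
    simp only [List.map_cons, List.map_nil, List.prod_cons, List.prod_nil, ← g]
    rw [show chevF4.rank = 4 from rfl]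
    ring
  rw [hidx, hP]
  have hq0 : ∀ n, ¬ ℓ ∣ q ^ n := by
    intro n h
    have := hℓ.dvd_of_dvd_pow h
    rw [Nat.dvd_iff_mod_eq_zero, h1] at this
    exact one_ne_zero this
  haveI : Fact ℓ.Prime := ⟨hℓ⟩
  have hz : (q : ZMod ℓ) = 1 := by
    rw [← ZMod.natCast_mod, h1, Nat.cast_one]
  intro h
  rw [hℓ.dvd_mul] at h
  rcases h with h | h
  · exact hq0 _ h
  · apply hdeg
    rw [← CharP.cast_eq_zero_iff (ZMod ℓ) ℓ] at h ⊢
    simp only [Nat.cast_mul, Nat.cast_sum, Nat.cast_pow, hz, one_pow, Finset.sum_const,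
      Finset.card_range, nsmul_eq_mul, mul_one] at h
    push_cast at h ⊢
    linear_combination h

end Cfsg.Agent.KnownA.AltSect
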