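import Cfsg.Agent.Lib.KnownA.AltSect.NoEight
import Cfsg.Agent.Lib.Chev.PoinG2
import Cfsg.Agent.Lib.Chev.Count
import Cfsg.Agent.Lib.Chev.DefectZero
import Cfsg.Agent.Lib.Chev.Map
import Cfsg.Agent.Lib.Chev.StMove

/-!
Alternating sections of the groups of type G2.
-/

set_option autoImplicit false
set_option linter.all false
set_option maxRecDepth 100000

namespace Cfsg.Agent.KnownA.AltSect

open Cfsg.Lie Cfsg.Agent.Lib.Chev

section generic

variable {D : ChevalleyDatum} {T : Tables} {F : Type*} [Field F] (G : Good D T)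
include G

theorem act_iter {g : GL D.Idx F} {f : ℕ → ℕ} (h : G.Act F g f) : ∀ n, G.Act F (g ^ n) f^[n]
  | 0 => by
    rw [pow_zero]
    exact G.act_diag (one_mem _)
  | n + 1 => by
    rw [pow_succ', Function.iterate_succ']
    exact G.act_mul h (act_iter h n)

theorem fusion_gen {g : GL D.Idx F} (hg : g ∈ D.group F) :
    ∃ n, n ∈ D.monomialSubgroup F ∧ ∀ t ∈ D.diagonalSubgroup F,
      g * t * g⁻¹ ∈ D.diagonalSubgroup F → g * t * g⁻¹ = n * t * n⁻¹ := by
  obtain ⟨b, hb, n, l, hl, u₂, hu₂, rfl⟩ := G.exists_normal_form hg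
  obtain ⟨u₁, hu₁, d, hd, rfl⟩ := G.mem_borel.1 hb
  have hn := G.monomial_of_rep hl
  refine ⟨d * n, mul_mem (Good.diagonal_le_monomial hd) hn, fun t ht ht' => ?_⟩
  set t' := u₁ * d * n * u₂ * t * (u₁ * d * n * u₂)⁻¹ with ht'def
  have htn : ∀ x ∈ D.diagonalSubgroup F, n * x * n⁻¹ ∈ D.diagonalSubgroup F := fun x hx =>
    (Subgroup.mem_normalizer_iff.1 (G.monomial_le_normalizer hn) _).1 hx
  have huU' : t⁻¹ * u₂ * t ∈ G.USub F (flipSet D T l) := by
    have := (Subgroup.mem_normalizer_iff.1 (G.diag_normalizes _ (inv_mem ht)) _).1 hu₂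
    simpa using this
  have hdn : d * (n * t * n⁻¹) ∈ D.diagonalSubgroup F := mul_mem hd (htn t ht)
  have hb1 : t' * (u₁ * d) ∈ D.borelSubgroup F := mul_mem (Subgroup.mem_sup_right ht') hb
  have hb2 : u₁ * (d * (n * t * n⁻¹)) ∈ D.borelSubgroup F :=
    mul_mem (Subgroup.mem_sup_left hu₁) (Subgroup.mem_sup_right hdn)
  have e : t' * (u₁ * d) * n * u₂ = u₁ * (d * (n * t * n⁻¹)) * n * (t⁻¹ * u₂ * t) := by
    rw [ht'def]; group
  obtain ⟨e1, -⟩ := G.normal_form_unique hl hb1 hb2 hu₂ huU' e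
  have hX : d * n * t * (d * n)⁻¹ ∈ D.diagonalSubgroup F := by
    have := mul_mem hdn (inv_mem hd)
    convert this using 1
    group
  have h2 : u₁⁻¹ * t' * u₁ = d * n * t * (d * n)⁻¹ := by
    calc u₁⁻¹ * t' * u₁ = u₁⁻¹ * (t' * (u₁ * d)) * d⁻¹ := by group
      _ = _ := by rw [e1]; group
  have h3 : t'⁻¹ * u₁⁻¹ * t' * u₁ = t'⁻¹ * (d * n * t * (d * n)⁻¹) := by rw [← h2]; group
  have h4 : t'⁻¹ * u₁⁻¹ * t' * u₁ = 1 := by
    have hp : t'⁻¹ * u₁⁻¹ * t' ∈ D.posUnipotent F := by
      have := (Subgroup.mem_normalizer_iff.1 (G.diag_normalizes_pos (inv_mem ht')) _).1 (inv_mem hu₁)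
      simpa using this
    have hq : t'⁻¹ * u₁⁻¹ * t' * u₁ ∈ D.diagonalSubgroup F := by
      rw [h3]; exact mul_mem (inv_mem ht') hX
    have hbot : t'⁻¹ * u₁⁻¹ * t' * u₁ ∈ D.posUnipotent F ⊓ D.diagonalSubgroup F :=
      Subgroup.mem_inf.2 ⟨mul_mem hp hu₁, hq⟩
    rw [G.pos_inf_diag] at hbot
    exact Subgroup.mem_bot.1 hbot
  exact inv_mul_eq_one.1 (h3.symm.trans h4)

end generic

/-- The twelve words. -/
def wlG2 : List (List ℕ) :=
  [[], [0], [1], [0, 1], [1, 0], [0, 1, 0], [1, 0, 1], [0, 1, 0, 1], [1, 0, 1, 0], [0, 1, 0, 1, 0],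
    [1, 0, 1, 0, 1], [0, 1, 0, 1, 0, 1]]

/-- The images of the fundamental roots. -/
def imgG2 (w : List ℕ) : List ℕ := (List.range 2).map fun j => wl tabG2 w (sim chevG2 j)

theorem wlG2_chk : (decide (wlG2.map imgG2).Nodup &&
    wlG2.all (fun w => w.all (fun i => decide (i < 2)) &&
      (List.range 2).all (fun i => wlG2.any fun v => imgG2 v == imgG2 (i :: w)) &&
      (List.range 2).all (fun j => (wl tabG2 w)^[6] (sim chevG2 j) == sim chevG2 j))) = true := by
  decide +kernel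

theorem wlG2_spec {w : List ℕ} (hw : w ∈ wlG2) : IsW chevG2 w ∧
    (∀ i < 2, ∃ v ∈ wlG2, imgG2 v = imgG2 (i :: w)) ∧
    ∀ j < 2, (wl tabG2 w)^[6] (sim chevG2 j) = sim chevG2 j := by
  have h := wlG2_chk
  simp only [Bool.and_eq_true, List.all_eq_true, List.any_eq_true, decide_eq_true_eq, beq_iff_eq,
    List.mem_range] at h
  exact ⟨(h.2 w hw).1.1, (h.2 w hw).1.2, (h.2 w hw).2⟩

theorem imgG2_eq {v w : List ℕ} (hv : IsW chevG2 v) (hw : IsW chevG2 w) (h : imgG2 v = imgG2 w) :
    ∀ s < chevG2.nroots, wl tabG2 v s = wl tabG2 w s := fun s hs =>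
  goodG2.wl_eq_of_simples hv hw (fun j hj => by
    simp only [imgG2, List.map_inj_left, List.mem_range] at h
    exact h j hj) hs

theorem wlG2_cover : ∀ {l : List ℕ}, IsW chevG2 l → ∃ w ∈ wlG2, ∀ s < chevG2.nroots,
    wl tabG2 l s = wl tabG2 w s
  | [], _ => ⟨[], by simp [wlG2], fun _ _ => rfl⟩
  | i :: l, hl => by
    obtain ⟨w, hw, he⟩ := wlG2_cover hl.tail.2
    obtain ⟨hwW, hcl, -⟩ := wlG2_spec hw
    obtain ⟨v, hv, hve⟩ := hcl i hl.tail.1
    have hiw : IsW chevG2 (i :: w) := fun x hx => by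
      rcases List.mem_cons.1 hx with rfl | hx
      · exact hl.tail.1
      · exact hwW x hx
    refine ⟨v, hv, fun s hs => ?_⟩
    rw [imgG2_eq (wlG2_spec hv).1 hiw hve s hs]
    simp only [wl]
    rw [he s hs]

theorem weyl_six {l : List ℕ} (hl : IsW chevG2 l) : ∀ s < chevG2.nroots, (wl tabG2 l)^[6] s = s := by
  obtain ⟨w, hw, he⟩ := wlG2_cover hl
  obtain ⟨hwW, -, h6⟩ := wlG2_spec hw
  have word : ∀ (u : List ℕ) n, ∀ s, (wl tabG2 u)^[n] s = wl tabG2 (List.replicate n u).flatten s := by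
    intro u n
    induction n with
    | zero => intro s; rfl
    | succ n ih =>
      intro s
      rw [Function.iterate_succ_apply', ih, List.replicate_succ, List.flatten_cons, wl_append]
  have hit : ∀ n, ∀ s < chevG2.nroots, (wl tabG2 l)^[n] s = (wl tabG2 w)^[n] s ∧
      (wl tabG2 l)^[n] s < chevG2.nroots := by
    intro n
    induction n with
    | zero => intro s hs; exact ⟨rfl, hs⟩
    | succ n ih =>
      intro s hs
      obtain ⟨h1, h2⟩ := ih s hs
      rw [Function.iterate_succ_apply', Function.iterate_succ_apply', ← h1, ← he _ h2]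
      exact ⟨rfl, goodG2.wl_lt hl h2⟩
  intro s hs
  rw [(hit 6 s hs).1, word]
  refine goodG2.wl_eq_of_simples (l' := []) (fun x hx => ?_) isW_nil (fun j hj => by
    rw [← word, h6 j hj]; rfl) hs
  simp only [List.mem_flatten, List.mem_replicate] at hx
  obtain ⟨_, ⟨_, rfl⟩, hx⟩ := hx
  exact hwW x hx

variable {F : Type*} [Field F] [Fintype F]

theorem G2_action : ∀ S : Subgroup ↥(chevG2.group F),
    S ≤ (chevG2.diagonalSubgroup F).subgroupOf (chevG2.group F) → ∀ h : ↥(chevG2.group F),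
      (∀ s ∈ S, h * s * h⁻¹ ∈ S) → ∀ s ∈ S, h ^ 6 * s * (h ^ 6)⁻¹ = s := by
  intro S hS h hh s hs
  obtain ⟨n, hn, hfus⟩ := fusion_gen goodG2 (g := (h : GL chevG2.Idx F)) h.2
  have iter : ∀ k : ℕ, h ^ k * s * (h ^ k)⁻¹ ∈ S ∧
      ((h ^ k * s * (h ^ k)⁻¹ : ↥(chevG2.group F)) : GL chevG2.Idx F) =
        n ^ k * (s : GL chevG2.Idx F) * (n ^ k)⁻¹ := by
    intro k
    induction k with
    | zero => simp [hs]
    | succ k ih =>
      have e : h ^ (k + 1) * s * (h ^ (k + 1))⁻¹ = h * (h ^ k * s * (h ^ k)⁻¹) * h⁻¹ := by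
        rw [pow_succ']; group
      rw [e]
      refine ⟨hh _ ih.1, ?_⟩
      calc ((h * (h ^ k * s * (h ^ k)⁻¹) * h⁻¹ : ↥(chevG2.group F)) : GL chevG2.Idx F)
          = (h : GL chevG2.Idx F) * ((h ^ k * s * (h ^ k)⁻¹ : ↥(chevG2.group F)) : GL chevG2.Idx F) *
            (h : GL chevG2.Idx F)⁻¹ := rfl
        _ = n * ((h ^ k * s * (h ^ k)⁻¹ : ↥(chevG2.group F)) : GL chevG2.Idx F) * n⁻¹ :=
          hfus _ (hS ih.1) (hS (hh _ ih.1))
        _ = _ := by rw [ih.2, pow_succ']; group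
  obtain ⟨l, hl⟩ := goodG2.exists_rep hn
  apply Subtype.ext
  rw [(iter 6).2]
  exact mul_inv_eq_of_eq_mul (goodG2.diag_comm (goodG2.mem_diag_of_act_id (pow_mem hn 6)
    (act_iter goodG2 (goodG2.rep_act hl) 6) (weyl_six hl.1)) (hS hs))

/-- The monomial subgroup inside the group. -/
abbrev NG2 (F : Type*) [Field F] : Subgroup ↥(chevG2.group F) :=
  (chevG2.monomialSubgroup F).subgroupOf (chevG2.group F)

/-- The diagonal subgroup inside the group. -/
abbrev TG2 (F : Type*) [Field F] : Subgroup ↥(chevG2.group F) :=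
  (chevG2.diagonalSubgroup F).subgroupOf (chevG2.group F)

theorem G2_relIndex : (TG2 F).relIndex (NG2 F) = 12 := by
  classical
  have hlen : wlG2.length = 12 := rfl
  let el : Fin 12 → ↥(NG2 F) := fun i =>
    ⟨⟨goodG2.nl F (wlG2[i.val]'(by rw [hlen]; exact i.isLt)), goodG2.monomial_le_group
      (goodG2.nl_mem_monomial (wlG2_spec (List.getElem_mem _)).1)⟩,
      goodG2.nl_mem_monomial (wlG2_spec (List.getElem_mem _)).1⟩
  let Φ : Fin 12 → ↥(NG2 F) ⧸ (TG2 F).subgroupOf (NG2 F) := fun i => QuotientGroup.mk (el i)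
  have hΦ : Function.Bijective Φ := by
    constructor
    · intro i j e
      have hd : (goodG2.nl F (wlG2[i.val]))⁻¹ * goodG2.nl F (wlG2[j.val]) ∈ chevG2.diagonalSubgroup F :=
        (QuotientGroup.eq (s := (TG2 F).subgroupOf (NG2 F)) (a := el i) (b := el j)).1 e
      have hi := (wlG2_spec (List.getElem_mem (l := wlG2) (show i.val < wlG2.length by rw [hlen]; exact i.isLt))).1
      have hj := (wlG2_spec (List.getElem_mem (l := wlG2) (show j.val < wlG2.length by rw [hlen]; exact j.isLt))).1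
      have h1 := goodG2.act_mul (goodG2.act_nl (F := F) hi) (goodG2.act_diag hd)
      rw [mul_inv_cancel_left] at h1
      have himg : imgG2 (wlG2[i.val]) = imgG2 (wlG2[j.val]) := by
        simp only [imgG2, List.map_inj_left, List.mem_range]
        intro k hk
        exact (goodG2.act_unique (goodG2.act_nl (F := F) hj) h1 (goodG2.sim_lt hk)).symm
      have hnd := wlG2_chk
      simp only [Bool.and_eq_true, decide_eq_true_eq] at hnd
      have hget : (wlG2.map imgG2)[i.val]'(by simp [hlen]) = (wlG2.map imgG2)[j.val]'(by simp [hlen]) := by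
        simpa using himg
      exact Fin.ext ((List.Nodup.getElem_inj_iff hnd.1).1 hget)
    · intro x
      induction x using QuotientGroup.induction_on with
      | H n =>
        obtain ⟨l, hl⟩ := goodG2.exists_rep n.2
        obtain ⟨w, hw, he⟩ := wlG2_cover hl.1
        obtain ⟨i, hi, rfl⟩ := List.getElem_of_mem hw
        refine ⟨⟨i, hlen ▸ hi⟩, QuotientGroup.eq.2 ?_⟩
        show (goodG2.nl F (wlG2[i]))⁻¹ * ((n : ↥(chevG2.group F)) : GL chevG2.Idx F) ∈
          chevG2.diagonalSubgroup F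
        have hiW := (wlG2_spec (List.getElem_mem (l := wlG2) hi)).1
        have hinv : goodG2.Rep F (goodG2.nl F (wlG2[i]))⁻¹ (wlG2[i]).reverse :=
          goodG2.rep_nl_inv hiW
        refine goodG2.mem_diag_of_act_id (mul_mem (goodG2.monomial_of_rep hinv) n.2)
          (goodG2.act_mul (goodG2.rep_act hinv) (goodG2.rep_act hl)) fun s hs => ?_
        simp only [Function.comp_apply]
        rw [he s hs, goodG2.wl_reverse_wl hiW hs]
  rw [Subgroup.relIndex, Subgroup.index, ← Nat.card_eq_of_bijective Φ hΦ, Nat.card_fin]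

theorem G2_pW : pW chevG2 tabG2 chevG2.rank (Fintype.card F) =
    (∑ i ∈ Finset.range 2, Fintype.card F ^ i) * (∑ i ∈ Finset.range 6, Fintype.card F ^ i) := by
  set q := Fintype.card F
  have hq1 : 1 < q := Fintype.one_lt_card
  have hp := goodG2.poincare poinG2 q
  have g : ∀ n : ℕ, ((q : ℤ) - 1) * (∑ i ∈ Finset.range n, (q : ℤ) ^ i) = (q : ℤ) ^ n - 1 :=
    fun n => mul_geom_sum (q : ℤ) n
  have hne : ((q : ℤ) - 1) ^ chevG2.rank ≠ 0 := pow_ne_zero _ (by omega)
  apply Nat.cast_injective (R := ℤ)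
  refine mul_left_cancel₀ hne ?_
  push_cast
  rw [hp]
  simp only [List.map_cons, List.map_nil, List.prod_cons, List.prod_nil, ← g]
  rw [show chevG2.rank = 2 from rfl]
  ring

theorem G2_TG2_index : (TG2 F).index = Fintype.card F ^ 6 * pW chevG2 tabG2 chevG2.rank (Fintype.card F) := by
  have hle : chevG2.diagonalSubgroup F ≤ chevG2.group F := fun x hx =>
    goodG2.borel_le_group (Subgroup.mem_sup_right hx)
  have hT : Nat.card ↥(TG2 F) = Nat.card ↥(chevG2.diagonalSubgroup F) :=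
    Nat.card_congr (Subgroup.subgroupOfEquivOfLe hle).toEquiv
  have hG := goodG2.card_group (F := F)
  rw [goodG2.card_borel, goodG2.card_pos, ← (TG2 F).card_mul_index, hT,
    show chevG2.nroots / 2 = 6 from rfl] at hG
  refine Nat.eq_of_mul_eq_mul_left (Nat.card_pos (α := ↥(chevG2.diagonalSubgroup F))) ?_
  rw [hG]; ring

theorem G2_five (h1 : Fintype.card F % 5 = 1) : ¬ 5 ∣ (TG2 F).index := by
  haveI : Fact (Nat.Prime 5) := ⟨by norm_num⟩
  rw [G2_TG2_index, G2_pW]
  set q := Fintype.card F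
  have hz : (q : ZMod 5) = 1 := by rw [← ZMod.natCast_mod, h1, Nat.cast_one]
  intro h
  rw [← CharP.cast_eq_zero_iff (ZMod 5) 5] at h
  simp only [Nat.cast_mul, Nat.cast_sum, Nat.cast_pow, hz, one_pow, Finset.sum_const, Finset.card_range,
    nsmul_eq_mul, mul_one, one_mul] at h
  have h12 : ((12 : ℕ) : ZMod 5) = 0 := by
    push_cast at h ⊢
    linear_combination h
  rw [CharP.cast_eq_zero_iff (ZMod 5) 5] at h12
  norm_num at h12

theorem G2_odd (h1 : Fintype.card F % 4 = 1) : ¬ 2 ∣ (NG2 F).index := by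
  have hTN : TG2 F ≤ NG2 F := fun x hx => Good.diagonal_le_monomial hx
  have h := Subgroup.relIndex_mul_index hTN
  rw [G2_relIndex, G2_TG2_index, G2_pW] at h
  obtain ⟨k, hk⟩ : ∃ k, Fintype.card F = 4 * k + 1 := ⟨Fintype.card F / 4, by omega⟩
  rw [hk] at h
  simp only [Finset.sum_range_succ, Finset.sum_range_zero] at h
  have e : 3 * (NG2 F).index = (4 * k + 1) ^ 6 * ((2 * k + 1) ^ 2 * ((4 * k + 1) ^ 4 + (4 * k + 1) ^ 2 + 1)) := by
    refine Nat.eq_of_mul_eq_mul_left (show 0 < 4 by norm_num) ?_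
    rw [← mul_assoc, show 4 * 3 = 12 from rfl, h]
    ring
  intro hdvd
  have h2 : 2 ∣ 3 * (NG2 F).index := hdvd.mul_left 3
  rw [e, Nat.dvd_iff_mod_eq_zero] at h2
  simp [Nat.mul_mod, Nat.pow_mod, Nat.add_mod] at h2

theorem G2_two_generated : ∀ U : Subgroup ↥(chevG2.group F), U ≤ TG2 F →
    ∃ u v, U = Subgroup.closure {u, v} := by
  intro U hU
  let pr : Fˣ × Fˣ →* (Fin chevG2.rank → Fˣ) :=
    { toFun := fun p i => if i.val = 0 then p.1 else p.2
      map_one' := funext fun i => by simp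
      map_mul' := fun p p' => funext fun i => by
        simp only [Prod.fst_mul, Prod.snd_mul, Pi.mul_apply]; split <;> rfl }
  let ψ : Fˣ × Fˣ →* ↥(chevG2.group F) := ((goodG2.torHom F).comp pr).codRestrict _ fun p =>
    goodG2.borel_le_group (Subgroup.mem_sup_right (by rw [← goodG2.torHom_range]; exact ⟨_, rfl⟩))
  refine two_generated_of_image ψ U (hU.trans ?_)
  intro x hx
  have hx' : (x : GL chevG2.Idx F) ∈ (goodG2.torHom F).range := by rw [goodG2.torHom_range]; exact hx
  obtain ⟨c, hc⟩ := hx'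
  refine ⟨(c ⟨0, by decide⟩, c ⟨1, by decide⟩), Subtype.ext ?_⟩
  show goodG2.torHom F (pr _) = x
  rw [← hc]
  congr 1
  funext i
  obtain ⟨i, hi⟩ := i
  have : chevG2.rank = 2 := rfl
  rcases i with _ | _ | i
  · rfl
  · rfl
  · omega

theorem G2_sections {F : Type*} [Field F] [Fintype F] (p : ℕ) [Fact p.Prime] [CharP F p]
    (r : ℕ) (H : Subgroup ↥(chevG2.group F)) (K : Subgroup ↥H) [K.Normal]
    (iso : ↥H ⧸ K ≃* ↥(alternatingGroup (Fin r))) : r ≤ 6 + (if p = 5 then 1 else 0) := by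
  classical
  let L := FiniteField.Extension F p 4
  letI : Fintype L := Fintype.ofFinite _
  let ρ : F →+* L := algebraMap F L
  let em : GL chevG2.Idx F →* GL chevG2.Idx L := Units.map ρ.mapMatrix.toMonoidHom
  have hem : Function.Injective em := by
    intro a b h
    refine Units.ext ?_
    have h' : ρ.mapMatrix (a : Matrix chevG2.Idx chevG2.Idx F) = ρ.mapMatrix (b : Matrix chevG2.Idx chevG2.Idx F) :=
      congrArg Units.val h
    exact Matrix.map_injective ρ.injective h'
  have hmap : ∀ g ∈ chevG2.group F, em g ∈ chevG2.group L := by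
    intro g hg
    induction hg using Subgroup.closure_induction with
    | mem g hg =>
      obtain ⟨r', t, hrt⟩ := hg
      refine Subgroup.subset_closure ⟨r', ρ t, ?_⟩
      show ρ.mapMatrix (g : Matrix chevG2.Idx chevG2.Idx F) = _
      rw [hrt]
      have hx := x_map (D := chevG2) ρ r'.val t
      unfold ChevalleyDatum.x at hx
      rw [dif_pos r'.isLt, dif_pos r'.isLt] at hx
      exact hx
    | one => rw [map_one]; exact one_mem _
    | mul x y _ _ hx hy => rw [map_mul]; exact mul_mem hx hy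
    | inv x _ hx => rw [map_inv]; exact inv_mem hx
  let φ0 : ↥(chevG2.group F) →* ↥(chevG2.group L) := (em.comp (chevG2.group F).subtype).codRestrict _
    fun g => hmap g g.2
  let φ : ↥H →* ↥(chevG2.group L) := φ0.comp H.subtype
  have hφ : Function.Injective φ := fun a b h =>
    Subtype.ext (Subtype.ext (hem (congrArg Subtype.val h)))
  let f : ↥H →* ↥(alternatingGroup (Fin r)) := iso.toMonoidHom.comp (QuotientGroup.mk' K)
  have hf : Function.Surjective f := iso.surjective.comp (QuotientGroup.mk'_surjective K)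
  have hcard : Fintype.card L = Fintype.card F ^ 4 := by
    rw [← Nat.card_eq_fintype_card, FiniteField.natCard_extension, Nat.card_eq_fintype_card]
  obtain ⟨n, hp, hn⟩ := FiniteField.card F p
  split_ifs with h5
  · subst h5
    have h4 : Fintype.card L % 4 = 1 := by
      rw [hcard, hn, ← pow_mul, Nat.pow_mod]; norm_num
    exact no_eight φ hφ (NG2 L) (TG2 L) (fun x hx => Good.diagonal_le_monomial hx)
      (fun n hn t ht => (Subgroup.mem_normalizer_iff.1 (goodG2.monomial_le_normalizer hn) _).1 ht)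
      (fun s hs t ht => Subtype.ext (goodG2.diag_comm hs ht)) G2_two_generated G2_relIndex
      (G2_odd h4) r f hf
  · have h51 : Fintype.card L % 5 = 1 := by
      rw [hcard]
      have hnd : ¬ 5 ∣ Fintype.card F := fun h => h5 (by
        rw [hn] at h
        exact ((Nat.prime_dvd_prime_iff_eq (by norm_num) hp).1
          ((show Nat.Prime 5 by norm_num).dvd_of_dvd_pow h)).symm)
      rw [Nat.pow_mod]
      have hlt : Fintype.card F % 5 < 5 := Nat.mod_lt _ (by norm_num)
      rw [Nat.dvd_iff_mod_eq_zero] at hnd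
      interval_cases Fintype.card F % 5 <;> first | omega | rfl
    exact no_five φ hφ (TG2 L) (G2_five h51) G2_action r f hf

end Cfsg.Agent.KnownA.AltSect
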