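import Mathlib

/-!
Lifting normalizing elements through a surjection, and moving subgroups of prime power order into an
abelian subgroup of index prime to that prime.
-/

set_option autoImplicit false
set_option linter.all false

namespace Cfsg.Agent.KnownA.AltSect

variable {H A : Type*} [Group H] [Finite H] [Group A]

/-- Frattini: a Sylow subgroup of the preimage of a cyclic group can be normalized by a lift. -/
theorem exists_lift (f : H →* A) {H1 : Subgroup H} (P : Subgroup H) {ℓ : ℕ} [Fact ℓ.Prime]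
    (Ps : Sylow ℓ ↥H1) (hP : P = (Ps : Subgroup ↥H1).map H1.subtype) (z : H)
    (hz : ∀ x ∈ H1, z * x * z⁻¹ ∈ H1) :
    ∃ a ∈ H1, ∀ x ∈ P, a * z * x * (a * z)⁻¹ ∈ P := by
  have hn : ∀ (k : ℕ), ∀ x ∈ H1, z ^ k * x * (z ^ k)⁻¹ ∈ H1 := by
    intro k
    induction k with
    | zero => simp
    | succ k ih =>
      intro x hx
      have := hz _ (ih x hx)
      convert this using 1
      rw [pow_succ']; group
  obtain ⟨k, hk⟩ : ∃ k : ℕ, z ^ k = z⁻¹ := ⟨orderOf z - 1, by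
    rw [eq_inv_iff_mul_eq_one, ← pow_succ, Nat.sub_add_cancel (orderOf_pos z), pow_orderOf_eq_one]⟩
  let σ : MulAut ↥H1 :=
    { toFun := fun x => ⟨z * x * z⁻¹, hz x x.2⟩
      invFun := fun x => ⟨z⁻¹ * x * z, by
        have := hn k x x.2
        rwa [hk, inv_inv] at this⟩
      left_inv := fun x => Subtype.ext (by simp [mul_assoc])
      right_inv := fun x => Subtype.ext (by simp [mul_assoc])
      map_mul' := fun a b => Subtype.ext (by simp [mul_assoc]) }
  obtain ⟨a, ha⟩ := MulAction.exists_smul_eq ↥H1 (σ • Ps) Ps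
  refine ⟨a, a.2, ?_⟩
  subst hP
  rintro _ ⟨x, hx, rfl⟩
  refine ⟨a * σ x * a⁻¹, ?_, by simp [σ, mul_assoc]⟩
  have h1 : σ x ∈ ((σ • Ps : Sylow ℓ ↥H1) : Subgroup ↥H1) := by
    rw [Sylow.pointwise_smul_def]
    exact Subgroup.smul_mem_pointwise_smul x σ _ hx
  have h2 : a * σ x * a⁻¹ ∈ ((a • σ • Ps : Sylow ℓ ↥H1) : Subgroup ↥H1) := by
    rw [Sylow.smul_def, Sylow.pointwise_smul_def]
    exact Subgroup.smul_mem_pointwise_smul (σ x) (MulAut.conj a) _ h1
  rwa [ha] at h2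

/-- A Sylow subgroup of a preimage hits every element of prime power order of the image. -/
theorem exists_preimage (f : H →* A) {H1 : Subgroup H} {ℓ : ℕ} [Fact ℓ.Prime] (Ps : Sylow ℓ ↥H1)
    (c : A) (hc : c ∈ H1.map f) (hcyc : ∀ x ∈ H1.map f, Commute x c) (hord : IsPGroup ℓ (Subgroup.zpowers c)) :
    ∃ p ∈ (Ps : Subgroup ↥H1).map H1.subtype, f p = c := by
  let f0 : ↥H1 →* ↥(H1.map f) := f.subgroupMap H1
  have hf0 : Function.Surjective f0 := f.subgroupMap_surjective H1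
  set Z : Subgroup ↥(H1.map f) := Subgroup.zpowers ⟨c, hc⟩ with hZ
  haveI hZn : Z.Normal := by
    refine ⟨fun x hx g => ?_⟩
    obtain ⟨i, rfl⟩ := Subgroup.mem_zpowers_iff.1 hx
    have h : Commute g (⟨c, hc⟩ : ↥(H1.map f)) := Subtype.ext (hcyc g g.2).eq
    rw [(h.zpow_right i).eq, mul_inv_cancel_right]
    exact hx
  have hZp : IsPGroup ℓ ↥Z := by
    intro x
    obtain ⟨i, hi⟩ := Subgroup.mem_zpowers_iff.1 x.2
    obtain ⟨j, hj⟩ := hord ⟨c ^ i, zpow_mem (Subgroup.mem_zpowers c) i⟩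
    refine ⟨j, Subtype.ext (Subtype.ext ?_)⟩
    have h := congrArg Subtype.val hj
    have hx : ((x : ↥(H1.map f)) : A) = c ^ i := by rw [← hi]; simp
    simpa [hx] using h
  haveI : Finite ↥(H1.map f) := Finite.of_surjective _ hf0
  obtain ⟨R, hR⟩ := hZp.exists_le_sylow
  obtain ⟨g, hg⟩ := MulAction.exists_smul_eq ↥(H1.map f) R (Ps.mapSurjective hf0)
  have h1 : (⟨c, hc⟩ : ↥(H1.map f)) ∈ ((Ps.mapSurjective hf0 : Sylow ℓ _) : Subgroup ↥(H1.map f)) := by
    rw [← hg, Sylow.smul_def, Sylow.pointwise_smul_def, Subgroup.mem_pointwise_smul_iff_inv_smul_mem]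
    refine hR ?_
    rw [← map_inv]
    show g⁻¹ * _ * g⁻¹⁻¹ ∈ Z
    exact hZn.conj_mem _ (Subgroup.mem_zpowers _) _
  rw [Sylow.coe_mapSurjective, Subgroup.mem_map] at h1
  obtain ⟨p, hp, hpe⟩ := h1
  exact ⟨p, ⟨p, hp, rfl⟩, congrArg Subtype.val hpe⟩

variable {G : Type*} [Group G] [Finite G]

/-- An `ℓ`-subgroup centralizing `S` moves into `T` by an element centralizing `S`. -/
theorem exists_into (T : Subgroup G) {ℓ : ℕ} [Fact ℓ.Prime] (hidx : ¬ ℓ ∣ T.index) (C : Subgroup G)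
    (hTC : T ≤ C) (Q : Subgroup G) (hQC : Q ≤ C) (hQ : IsPGroup ℓ ↥Q) :
    ∃ g ∈ C, ∀ x ∈ Q, g * x * g⁻¹ ∈ T := by
  set T' : Subgroup ↥C := T.subgroupOf C with hT'
  obtain ⟨R⟩ : Nonempty (Sylow ℓ ↥T') := inferInstance
  set RC : Subgroup ↥C := (R : Subgroup ↥T').map T'.subtype with hRC
  have hidx' : ¬ ℓ ∣ T'.index := fun h => hidx (h.trans (Subgroup.relIndex_dvd_index_of_le hTC))
  have hRcard : Nat.card ↥RC = ℓ ^ (Nat.card ↥C).factorization ℓ := by
    rw [hRC, Subgroup.card_map_of_injective T'.subtype_injective, Sylow.card_eq_multiplicity]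
    congr 1
    rw [← T'.card_mul_index, Nat.factorization_mul Nat.card_pos.ne' Subgroup.index_ne_zero_of_finite,
      Finsupp.add_apply, Nat.factorization_eq_zero_of_not_dvd hidx', add_zero]
  obtain ⟨Q0, hQ0⟩ := (hQ.comap_of_injective C.subtype C.subtype_injective).exists_le_sylow
  obtain ⟨g, hg⟩ := MulAction.exists_smul_eq ↥C Q0 (Sylow.ofCard RC hRcard)
  refine ⟨g, g.2, fun x hx => ?_⟩
  have h2 : g * ⟨x, hQC hx⟩ * g⁻¹ ∈ ((g • Q0 : Sylow ℓ ↥C) : Subgroup ↥C) := by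
    rw [Sylow.smul_def, Sylow.pointwise_smul_def]
    exact Subgroup.smul_mem_pointwise_smul _ (MulAut.conj g) _ (hQ0 (show x ∈ Q from hx))
  rw [hg] at h2
  exact Subgroup.mem_subgroupOf.1 (Subgroup.map_subtype_le _ h2)

end Cfsg.Agent.KnownA.AltSect
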