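import Cfsg.Agent.Lib.KnownA.AltSect.EightData
import Cfsg.Agent.Lib.KnownA.AltSect.Lift

/-!
Sections isomorphic to alternating groups of degree seven and eight, from the exponent of the fusion
in a torus of rank two and from the index of the torus in a Sylow two-subgroup.
-/

set_option autoImplicit false
set_option linter.all false
set_option maxRecDepth 100000

namespace Cfsg.Agent.KnownA.AltSect

open Equiv

/-- The code of a permutation. -/
def pcode (σ : Perm (Fin 8)) : ℕ := pk fun i => if h : i < 8 then ((σ ⟨i, h⟩ : Fin 8) : ℕ) else 0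

theorem dig_pk (f : ℕ → ℕ) (hf : ∀ i < 8, f i < 8) : ∀ i < 8, dig (pk f) i = f i := by
  intro i hi
  have h0 := hf 0 (by norm_num); have h1 := hf 1 (by norm_num); have h2 := hf 2 (by norm_num)
  have h3 := hf 3 (by norm_num); have h4 := hf 4 (by norm_num); have h5 := hf 5 (by norm_num)
  have h6 := hf 6 (by norm_num); have h7 := hf 7 (by norm_num)
  simp only [dig, pk, Nat.shiftRight_eq_div_pow]
  interval_cases i <;> norm_num <;> omega

theorem dig_pcode (σ : Perm (Fin 8)) (i : Fin 8) : dig (pcode σ) i = (σ i : ℕ) := by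
  rw [pcode, dig_pk _ (fun j hj => by simp [hj]) i i.isLt]
  simp

theorem pcode_injective : Function.Injective pcode := fun σ τ h =>
  Equiv.ext fun i => Fin.ext (by rw [← dig_pcode, h, dig_pcode])

theorem pk_congr {f g : ℕ → ℕ} (h : ∀ i < 8, f i = g i) : pk f = pk g := by
  simp [pk, h 0, h 1, h 2, h 3, h 4, h 5, h 6, h 7]

theorem pcode_mul (σ τ : Perm (Fin 8)) : pcode (σ * τ) = cmul (pcode σ) (pcode τ) := by
  refine pk_congr fun i hi => ?_
  rw [dif_pos hi, show dig (pcode τ) i = ((τ ⟨i, hi⟩ : Fin 8) : ℕ) from dig_pcode τ ⟨i, hi⟩,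
    dig_pcode σ (τ ⟨i, hi⟩)]
  rfl

theorem pcode_one : pcode 1 = cone := pk_congr fun i hi => by rw [dif_pos hi]; rfl

theorem pcode_pow (σ : Perm (Fin 8)) : ∀ n, pcode (σ ^ n) = cpow (pcode σ) n
  | 0 => by rw [pow_zero]; exact pcode_one
  | n + 1 => by rw [pow_succ, pcode_mul, pcode_pow σ n]; rfl

/-- A generator. -/
def g80 : Perm (Fin 8) where
  toFun := ![2, 3, 0, 1, 5, 4, 7, 6]
  invFun := ![2, 3, 0, 1, 5, 4, 7, 6]
  left_inv := by decide
  right_inv := by decide

/-- A generator. -/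
def g81 : Perm (Fin 8) where
  toFun := ![1, 0, 2, 3, 4, 5, 7, 6]
  invFun := ![1, 0, 2, 3, 4, 5, 7, 6]
  left_inv := by decide
  right_inv := by decide

/-- A generator. -/
def g82 : Perm (Fin 8) where
  toFun := ![7, 6, 5, 4, 3, 2, 1, 0]
  invFun := ![7, 6, 5, 4, 3, 2, 1, 0]
  left_inv := by decide
  right_inv := by decide

/-- The generators. -/
def gens8 : Fin 3 → ↥(alternatingGroup (Fin 8)) :=
  ![⟨g80, Perm.mem_alternatingGroup.2 (by decide)⟩, ⟨g81, Perm.mem_alternatingGroup.2 (by decide)⟩,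
    ⟨g82, Perm.mem_alternatingGroup.2 (by decide)⟩]

/-- Words in the generators for the listed codes. -/
def words8 : List (List (Fin 3)) :=
  [[2], [1, 2, 0, 1, 0], [0, 1, 0, 1, 2, 0], [0, 1, 0, 2, 0, 1], [0, 1, 0, 2], [0, 1, 0, 1, 2, 0, 1, 0], [2, 0, 1], [1, 2, 0], [1, 2], [2, 0, 1, 0], [0, 1, 0, 1, 2, 0, 1], [0, 1, 0, 2, 0], [0, 1, 0, 1, 2], [0, 1, 0, 2, 0, 1, 0], [2, 0], [1, 2, 0, 1], [0, 1, 2, 0, 1, 0], [0, 2], [1, 0, 2, 0, 1], [1, 0, 1, 2, 0], [1, 0, 1, 2, 0, 1, 0], [1, 0, 2], [0, 1, 2, 0], [0, 2, 0, 1], [0, 2, 0, 1, 0], [0, 1, 2], [1, 0, 2, 0], [1, 0, 1, 2, 0, 1], [1, 0, 2, 0, 1, 0], [1, 0, 1, 2], [0, 1, 2, 0, 1], [0, 2, 0], [0, 2, 0, 2], [1, 0, 1, 2, 0, 2], [1, 2, 0, 1, 2], [0, 1, 0, 2, 0, 1, 2], [0, 1, 2, 0, 2], [1, 0, 2, 0, 2], [2, 0, 1, 2], [0, 2, 0, 1, 2, 0], [0, 2, 0, 1, 2], [2, 0, 1, 2, 0], [1, 2, 0, 2], [0, 1, 0, 2, 0, 2], [0, 1, 2, 0, 1, 2], [1, 0, 2, 0, 1, 2], [2, 0, 2], [0, 1, 0, 1, 2, 0, 2], [1, 0, 1], [0], [0, 1, 0, 2, 0, 1,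 0, 2], [1, 2, 0, 1, 0, 2], [2, 0, 1, 0, 2, 0], [0, 2, 0, 1, 0, 2], [0, 1, 0], [1], [1, 0], [0, 1], [0, 2, 0, 1, 0, 2, 0], [2, 0, 1, 0, 2], [1, 0, 2, 0, 1, 0, 2], [0, 1, 2, 0, 1, 0, 2], [0, 1, 0, 1], []]

/-- The code of a word. -/
def wcode : List (Fin 3) → ℕ
  | [] => cone
  | k :: w => cmul (pcode (gens8 k : Perm (Fin 8))) (wcode w)

theorem words8_chk : (words8.map wcode) = codes := by decide +kernel

theorem wcode_spec : ∀ w : List (Fin 3),
    pcode (((w.map gens8).prod : ↥(alternatingGroup (Fin 8))) : Perm (Fin 8)) = wcode w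
  | [] => by simpa [wcode] using pcode_one
  | k :: w => by
    rw [List.map_cons, List.prod_cons, Subgroup.coe_mul, pcode_mul, wcode_spec w]; rfl

/-- The Sylow subgroup with the listed codes. -/
def syl8 : Subgroup ↥(alternatingGroup (Fin 8)) where
  carrier := {σ | pcode (σ : Perm (Fin 8)) ∈ codes}
  mul_mem' := by
    intro a b ha hb
    show pcode ((a : Perm (Fin 8)) * b) ∈ codes
    rw [pcode_mul]
    have h := codes_closed
    simp only [List.all_eq_true, List.contains_iff_mem] at h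
    exact h _ ha _ hb
  one_mem' := by
    show pcode 1 ∈ codes
    rw [pcode_one]
    have h := codes_basic
    simp only [Bool.and_eq_true, List.contains_iff_mem] at h
    exact h.1
  inv_mem' := by
    intro a ha
    show pcode ((a : Perm (Fin 8))⁻¹) ∈ codes
    have h := codes_basic
    simp only [Bool.and_eq_true, List.all_eq_true, beq_iff_eq] at h
    have h4 : (a : Perm (Fin 8)) ^ 4 = 1 := pcode_injective (by
      rw [pcode_pow, pcode_one]; exact h.2 _ ha)
    have e : (a : Perm (Fin 8))⁻¹ = a * a * a := by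
      rw [inv_eq_iff_mul_eq_one, ← h4]; simp only [pow_succ, pow_zero, one_mul, mul_assoc]
    rw [e, pcode_mul, pcode_mul]
    have hc := codes_closed
    simp only [List.all_eq_true, List.contains_iff_mem] at hc
    exact hc _ (hc _ ha _ ha) _ ha

theorem syl8_card : Nat.card ↥syl8 = 64 := by
  classical
  have hsurj : ∀ c ∈ codes, ∃ σ : ↥(alternatingGroup (Fin 8)), pcode (σ : Perm (Fin 8)) = c := by
    intro c hc
    rw [← words8_chk, List.mem_map] at hc
    obtain ⟨w, -, rfl⟩ := hc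
    exact ⟨_, wcode_spec w⟩
  let e : ↥syl8 → {c // c ∈ codes.toFinset} := fun σ => ⟨_, List.mem_toFinset.2 σ.2⟩
  have he : Function.Bijective e := by
    refine ⟨fun a b h => Subtype.ext (Subtype.ext (pcode_injective (congrArg Subtype.val h))), ?_⟩
    rintro ⟨c, hc⟩
    obtain ⟨σ, hσ⟩ := hsurj c (List.mem_toFinset.1 hc)
    exact ⟨⟨σ, show pcode _ ∈ codes by rw [hσ]; exact List.mem_toFinset.1 hc⟩, Subtype.ext hσ⟩
  rw [Nat.card_eq_of_bijective e he, Nat.card_eq_fintype_card, Fintype.card_coe,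
    List.toFinset_card_of_nodup codes_nodup]
  decide +kernel

theorem syl8_comm {x y : ↥(alternatingGroup (Fin 8))} (hx : x ∈ syl8) (hy : y ∈ syl8)
    (hxy : Commute x y) : Nat.card ↥(Subgroup.closure ({x, y} : Set ↥(alternatingGroup (Fin 8)))) ≤ 8 := by
  classical
  set a := pcode (x : Perm (Fin 8))
  set b := pcode (y : Perm (Fin 8))
  have h4 : ∀ z ∈ syl8, z ^ 4 = 1 := fun z hz => by
    have h := codes_basic
    simp only [Bool.and_eq_true, List.all_eq_true, beq_iff_eq] at h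
    exact Subtype.ext (pcode_injective (by
      rw [Subgroup.coe_pow, pcode_pow, Subgroup.coe_one, pcode_one]; exact h.2 _ hz))
  have hc := codes_comm
  simp only [List.all_eq_true, Bool.or_eq_true, bne_iff_ne, ne_eq, decide_eq_true_eq] at hc
  have hlen : (prods a b).dedup.length ≤ 8 := (hc a hx b hy).resolve_left (not_not.2 (by
    rw [← pcode_mul, ← pcode_mul]
    exact congrArg (fun z : ↥(alternatingGroup (Fin 8)) => pcode (z : Perm (Fin 8))) hxy.eq))
  set U := Subgroup.closure ({x, y} : Set ↥(alternatingGroup (Fin 8))) with hU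
  have hform : ∀ z ∈ U, ∃ i < 4, ∃ j < 4, z = x ^ i * y ^ j := by
    intro z hz
    induction hz using Subgroup.closure_induction with
    | mem z hz =>
      rcases hz with rfl | hz
      · exact ⟨1, by norm_num, 0, by norm_num, by simp⟩
      · rw [Set.mem_singleton_iff] at hz
        subst hz
        exact ⟨0, by norm_num, 1, by norm_num, by simp⟩
    | one => exact ⟨0, by norm_num, 0, by norm_num, by simp⟩
    | mul z w _ _ hz hw =>
      obtain ⟨i, hi, j, hj, rfl⟩ := hz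
      obtain ⟨i', hi', j', hj', rfl⟩ := hw
      refine ⟨(i + i') % 4, Nat.mod_lt _ (by norm_num), (j + j') % 4, Nat.mod_lt _ (by norm_num), ?_⟩
      rw [← pow_eq_pow_mod _ (h4 x hx), ← pow_eq_pow_mod _ (h4 y hy)]
      calc x ^ i * y ^ j * (x ^ i' * y ^ j') = x ^ i * (y ^ j * x ^ i') * y ^ j' := by group
        _ = _ := by rw [(hxy.pow_pow i' j).symm.eq, pow_add, pow_add]; group
    | inv z _ hz =>
      obtain ⟨i, hi, j, hj, rfl⟩ := hz
      refine ⟨(3 * i) % 4, Nat.mod_lt _ (by norm_num), (3 * j) % 4, Nat.mod_lt _ (by norm_num), ?_⟩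
      rw [← pow_eq_pow_mod _ (h4 x hx), ← pow_eq_pow_mod _ (h4 y hy)]
      rw [inv_eq_iff_mul_eq_one]
      calc x ^ i * y ^ j * (x ^ (3 * i) * y ^ (3 * j)) = x ^ i * (y ^ j * x ^ (3 * i)) * y ^ (3 * j) := by group
        _ = x ^ (4 * i) * y ^ (4 * j) := by
          rw [(hxy.pow_pow (3 * i) j).symm.eq, show 4 * i = i + 3 * i by ring,
            show 4 * j = j + 3 * j by ring, pow_add, pow_add]; group
        _ = 1 := by rw [pow_mul, pow_mul, h4 x hx, h4 y hy, one_pow, one_pow, one_mul]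
  let e : ↥U → {c // c ∈ (prods a b).toFinset} := fun z => ⟨pcode ((z : ↥(alternatingGroup (Fin 8))) : Perm (Fin 8)), by
    obtain ⟨i, hi, j, hj, hz⟩ := hform _ z.2
    rw [List.mem_toFinset, hz]
    simp only [prods, List.mem_flatMap, List.mem_map, List.mem_range]
    exact ⟨i, hi, j, hj, by rw [Subgroup.coe_mul, pcode_mul, Subgroup.coe_pow, Subgroup.coe_pow, pcode_pow, pcode_pow]⟩⟩
  have he : Function.Injective e := fun a b h =>
    Subtype.ext (Subtype.ext (pcode_injective (congrArg Subtype.val h)))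
  refine (Nat.card_le_card_of_injective e he).trans ?_
  rw [Nat.card_eq_fintype_card, Fintype.card_coe, List.card_toFinset]
  exact hlen

variable {G : Type*} [Group G] [Finite G] {H : Type*} [Group H] [Finite H]

/-- The image of a subgroup meeting a two-generated abelian subgroup in index four is too small. -/
theorem no_eight_exact (φ : H →* G) (hφ : Function.Injective φ) (N T : Subgroup G) (hTN : T ≤ N)
    (hTn : ∀ n ∈ N, ∀ t ∈ T, n * t * n⁻¹ ∈ T) (hT : ∀ s ∈ T, ∀ t ∈ T, s * t = t * s)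
    (h2g : ∀ U : Subgroup G, U ≤ T → ∃ u v, U = Subgroup.closure {u, v})
    (h12 : T.relIndex N = 12) (hidx : ¬ 2 ∣ N.index)
    (f : H →* ↥(alternatingGroup (Fin 8))) (hf : Function.Surjective f) : False := by
  classical
  haveI : Fact (Nat.Prime 2) := ⟨Nat.prime_two⟩
  obtain ⟨R⟩ : Nonempty (Sylow 2 H) := inferInstance
  obtain ⟨g, -, hg⟩ := exists_into N hidx ⊤ le_top ((R : Subgroup H).map φ) le_top (R.isPGroup'.map φ)
  have hcard : Nat.card ↥(alternatingGroup (Fin 8)) = 20160 := by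
    have h := two_mul_card_alternatingGroup (α := Fin 8)
    simp only [Fintype.card_perm, Fintype.card_fin, Nat.factorial] at h
    rw [Nat.card_eq_fintype_card]
    omega
  have h64 : Nat.card ↥syl8 = 2 ^ (Nat.card ↥(alternatingGroup (Fin 8))).factorization 2 := by
    rw [syl8_card, hcard]
    have h1 : Nat.factorization 20160 2 = 6 := by
      rw [show 20160 = 2 ^ 6 * 315 from rfl, Nat.factorization_mul (by norm_num) (by norm_num),
        Finsupp.add_apply, Nat.Prime.factorization_pow Nat.prime_two, Finsupp.single_eq_same,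
        Nat.factorization_eq_zero_of_not_dvd (by norm_num), add_zero]
    rw [h1]; rfl
  obtain ⟨c, hc⟩ := MulAction.exists_smul_eq ↥(alternatingGroup (Fin 8)) (R.mapSurjective hf)
    (Sylow.ofCard syl8 h64)
  set S : Subgroup ↥(alternatingGroup (Fin 8)) := ((R : Subgroup H).map f).map (MulAut.conj c).toMonoidHom
  have hS : S = syl8 := by
    have h := congrArg (fun P : Sylow 2 _ => (P : Subgroup ↥(alternatingGroup (Fin 8)))) hc
    simp only [Sylow.smul_def, Sylow.pointwise_smul_def, Sylow.coe_mapSurjective] at h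
    exact h
  set R0 : Subgroup H := (R : Subgroup H) ⊓ T.comap ((MulAut.conj g).toMonoidHom.comp φ) with hR0
  set A : Subgroup ↥(alternatingGroup (Fin 8)) := (R0.map f).map (MulAut.conj c).toMonoidHom with hA
  have hAle : A ≤ syl8 := hS ▸ Subgroup.map_mono (Subgroup.map_mono inf_le_left)
  set U : Subgroup G := R0.map ((MulAut.conj g).toMonoidHom.comp φ) with hU
  have hUT : U ≤ T := by
    rintro _ ⟨x, hx, rfl⟩
    exact hx.2
  obtain ⟨u, v, huv⟩ := h2g U hUT
  obtain ⟨u0, hu0, hu0e⟩ : u ∈ U := huv ▸ Subgroup.subset_closure (by simp)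
  obtain ⟨v0, hv0, hv0e⟩ : v ∈ U := huv ▸ Subgroup.subset_closure (by simp)
  set ψ : H →* ↥(alternatingGroup (Fin 8)) := (MulAut.conj c).toMonoidHom.comp f
  have hinj : Function.Injective ((MulAut.conj g).toMonoidHom.comp φ) :=
    (MulAut.conj g).injective.comp hφ
  have hgen : R0 = Subgroup.closure {u0, v0} := by
    apply Subgroup.map_injective hinj
    rw [← hU, huv, MonoidHom.map_closure, Set.image_pair, hu0e, hv0e]
  have hcomm : Commute (ψ u0) (ψ v0) := by
    refine Commute.map ?_ ψ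
    apply hinj
    rw [map_mul, map_mul]
    exact hT _ hu0.2 _ hv0.2
  have hA8 : Nat.card ↥A ≤ 8 := by
    have e : A = Subgroup.closure {ψ u0, ψ v0} := by
      rw [hA, Subgroup.map_map, hgen, MonoidHom.map_closure, Set.image_pair]
    rw [e]
    exact syl8_comm (hAle ⟨_, ⟨u0, hu0, rfl⟩, rfl⟩) (hAle ⟨_, ⟨v0, hv0, rfl⟩, rfl⟩) hcomm
  -- the index divides four
  have hdvd : R0.relIndex (R : Subgroup H) ∣ 12 := by
    rw [← h12, hR0, Subgroup.inf_relIndex_left, Subgroup.relIndex_comap]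
    set M := (R : Subgroup H).map ((MulAut.conj g).toMonoidHom.comp φ)
    have hMN : M ≤ N := by
      rintro _ ⟨x, hx, rfl⟩
      exact hg _ ⟨x, hx, rfl⟩
    haveI : (T.subgroupOf N).Normal :=
      ⟨fun x hx n => hTn n n.2 x hx⟩
    rw [← Subgroup.relIndex_subgroupOf hMN]
    exact Subgroup.relIndex_dvd_index_of_normal _ _
  obtain ⟨k, hk⟩ := R.isPGroup'.index (R0.subgroupOf (R : Subgroup H))
  have hk' : R0.relIndex (R : Subgroup H) = 2 ^ k := hk
  have hk4 : 2 ^ k ≤ 4 := by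
    rw [hk'] at hdvd
    rcases lt_or_ge k 3 with h | h
    · calc 2 ^ k ≤ 2 ^ 2 := Nat.pow_le_pow_right (by norm_num) (by omega)
        _ = 4 := rfl
    · have : 2 ^ 3 ∣ 12 := (pow_dvd_pow 2 h).trans hdvd
      norm_num at this
  have hidx2 : A.relIndex syl8 ∣ R0.relIndex (R : Subgroup H) := by
    rw [show syl8 = (R : Subgroup H).map ψ by rw [← hS]; exact Subgroup.map_map _ _ _,
      show A = R0.map ψ from Subgroup.map_map _ _ _, ← Subgroup.relIndex_comap]
    exact Subgroup.relIndex_dvd_of_le_left _ (Subgroup.le_comap_map _ _)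
  have h1 : Nat.card ↥A * A.relIndex syl8 = 64 := by
    rw [← syl8_card, ← Subgroup.card_mul_index (A.subgroupOf syl8)]
    congr 1
    exact Nat.card_congr (Subgroup.subgroupOfEquivOfLe hAle).symm.toEquiv
  have h2 : A.relIndex syl8 ≤ 4 := (Nat.le_of_dvd (by rw [hk']; positivity) hidx2).trans (hk' ▸ hk4)
  have := Nat.mul_le_mul hA8 h2
  omega

/-- A seven-point permutation: a five-cycle. -/
def c5 : Perm (Fin 7) where
  toFun := ![1, 2, 3, 4, 0, 5, 6]
  invFun := ![4, 0, 1, 2, 3, 5, 6]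
  left_inv := by decide
  right_inv := by decide

/-- An even permutation squaring the five-cycle. -/
def y5 : Perm (Fin 7) where
  toFun := ![0, 2, 4, 1, 3, 6, 5]
  invFun := ![0, 3, 1, 4, 2, 6, 5]
  left_inv := by decide
  right_inv := by decide

theorem no_five (φ : H →* G) (hφ : Function.Injective φ)
    (T : Subgroup G) (hidx : ¬ 5 ∣ T.index)
    (hW : ∀ S : Subgroup G, S ≤ T → ∀ h : G, (∀ s ∈ S, h * s * h⁻¹ ∈ S) →
      ∀ s ∈ S, h ^ 6 * s * (h ^ 6)⁻¹ = s)
    (r : ℕ) (f : H →* ↥(alternatingGroup (Fin r))) (hf : Function.Surjective f) : r ≤ 6 := by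
  classical
  by_contra hr
  push Not at hr
  haveI : Fact (Nat.Prime 5) := ⟨by norm_num⟩
  let ι : Fin 7 → Fin r := Fin.castLE (by omega)
  let em : Fin 7 ≃ {x : Fin r // x ∈ Set.range ι} := Equiv.ofInjective ι (Fin.castLE_injective _)
  let E : Perm (Fin 7) →* Perm (Fin r) := Perm.extendDomainHom em
  have hE : ∀ σ, Perm.sign (E σ) = Perm.sign σ := fun σ => Perm.sign_extendDomain σ em
  let cA : ↥(alternatingGroup (Fin r)) := ⟨E c5, by rw [Perm.mem_alternatingGroup, hE]; decide⟩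
  let yA : ↥(alternatingGroup (Fin r)) := ⟨E y5, by rw [Perm.mem_alternatingGroup, hE]; decide⟩
  have hcy : yA * cA * yA⁻¹ = cA ^ 2 := by
    apply Subtype.ext
    show E y5 * E c5 * (E y5)⁻¹ = E c5 ^ 2
    rw [← map_mul, ← map_inv, ← map_mul, ← map_pow]
    exact congrArg E (by decide)
  have hc5 : cA ^ 5 = 1 := by
    apply Subtype.ext
    show E c5 ^ 5 = 1
    rw [← map_pow, show c5 ^ 5 = 1 by decide, map_one]
  have hc1 : cA ≠ 1 := by
    intro h
    have h' : E c5 = E 1 := by rw [map_one]; exact congrArg Subtype.val h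
    exact absurd (Perm.extendDomainHom_injective em h') (by decide)
  have hord : orderOf cA = 5 := orderOf_eq_prime hc5 hc1
  set C : Subgroup ↥(alternatingGroup (Fin r)) := Subgroup.zpowers cA with hC
  set H0 : Subgroup H := C.comap f with hH0
  obtain ⟨y, hy⟩ := hf yA
  have hnorm : ∀ x ∈ H0, y * x * y⁻¹ ∈ H0 := by
    intro x hx
    obtain ⟨j, hj⟩ := Subgroup.mem_zpowers_iff.1 (show f x ∈ C from hx)
    show f (y * x * y⁻¹) ∈ C
    rw [map_mul, map_mul, map_inv, hy, ← hj, ← conj_zpow, hcy]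
    exact zpow_mem (pow_mem (Subgroup.mem_zpowers cA) 2) j
  obtain ⟨Ps⟩ : Nonempty (Sylow 5 ↥H0) := inferInstance
  obtain ⟨a, ha, haP⟩ := exists_lift f _ Ps rfl y hnorm
  have hmap : H0.map f = C := Subgroup.map_comap_eq_self_of_surjective hf C
  obtain ⟨p, hp, hpc⟩ := exists_preimage f Ps cA (by rw [hmap]; exact Subgroup.mem_zpowers cA)
    (by rw [hmap]; intro x hx; obtain ⟨i, rfl⟩ := Subgroup.mem_zpowers_iff.1 hx
        exact (Commute.refl cA).zpow_left i)
    (IsPGroup.of_card (n := 1) (by rw [Nat.card_zpowers, hord, pow_one]))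
  set P := (Ps : Subgroup ↥H0).map H0.subtype with hP
  obtain ⟨g, -, hg⟩ := exists_into T hidx ⊤ le_top (P.map φ) le_top ((Ps.isPGroup'.map _).map _)
  set S := (P.map φ).map (MulAut.conj g).toMonoidHom with hS
  have hST : S ≤ T := by
    rintro _ ⟨x, hx, rfl⟩
    exact hg x hx
  set h := g * φ (a * y) * g⁻¹ with hh
  have hnS : ∀ s ∈ S, h * s * h⁻¹ ∈ S := by
    rintro _ ⟨_, ⟨x, hx, rfl⟩, rfl⟩
    exact ⟨_, ⟨_, haP x hx, rfl⟩, by simp [hh, mul_assoc]⟩
  have key := hW S hST h hnS (g * φ p * g⁻¹) ⟨_, ⟨p, hp, rfl⟩, rfl⟩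
  have key' : (a * y) ^ 6 * p * ((a * y) ^ 6)⁻¹ = p := by
    apply hφ
    rw [hh, conj_pow] at key
    have h := congrArg (fun z => g⁻¹ * z * g) key
    simpa [mul_assoc] using h
  obtain ⟨j, hj⟩ := Subgroup.mem_zpowers_iff.1 (show f a ∈ C from ha)
  have h1 : f (a * y) * cA * (f (a * y))⁻¹ = cA ^ 2 := by
    rw [map_mul, hy, ← hj]
    calc cA ^ j * yA * cA * (cA ^ j * yA)⁻¹ = cA ^ j * (yA * cA * yA⁻¹) * (cA ^ j)⁻¹ := by group
      _ = cA ^ 2 := by rw [hcy]; group
  have hk : ∀ k : ℕ, f (a * y) ^ k * cA * (f (a * y) ^ k)⁻¹ = cA ^ (2 ^ k) := by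
    intro k
    induction k with
    | zero => simp
    | succ k ih =>
      calc f (a * y) ^ (k + 1) * cA * (f (a * y) ^ (k + 1))⁻¹
          = f (a * y) * (f (a * y) ^ k * cA * (f (a * y) ^ k)⁻¹) * (f (a * y))⁻¹ := by rw [pow_succ']; group
        _ = (f (a * y) * cA * (f (a * y))⁻¹) ^ (2 ^ k) := by rw [ih, conj_pow]
        _ = cA ^ (2 ^ (k + 1)) := by rw [h1, ← pow_mul, pow_succ']
  have h' := congrArg f key'
  rw [map_mul, map_mul, map_inv, map_pow, hpc, hk] at h'
  have h2 : cA ^ (2 ^ 6) = cA ^ 1 := by rw [h', pow_one]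
  have := pow_eq_pow_iff_modEq.1 h2
  rw [hord] at this
  exact absurd this (by decide)

/-- At most seven, or six away from the fifth characteristic. -/
theorem no_eight (φ : H →* G) (hφ : Function.Injective φ) (N T : Subgroup G) (hTN : T ≤ N)
    (hTn : ∀ n ∈ N, ∀ t ∈ T, n * t * n⁻¹ ∈ T) (hT : ∀ s ∈ T, ∀ t ∈ T, s * t = t * s)
    (h2g : ∀ U : Subgroup G, U ≤ T → ∃ u v, U = Subgroup.closure {u, v})
    (h12 : T.relIndex N = 12) (hidx : ¬ 2 ∣ N.index) (r : ℕ)
    (f : H →* ↥(alternatingGroup (Fin r))) (hf : Function.Surjective f) : r ≤ 7 := by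
  classical
  by_contra hr
  push Not at hr
  let ι : Fin 8 → Fin r := Fin.castLE (by omega)
  let em : Fin 8 ≃ {x : Fin r // x ∈ Set.range ι} := Equiv.ofInjective ι (Fin.castLE_injective _)
  let E : Perm (Fin 8) →* Perm (Fin r) := Perm.extendDomainHom em
  let E8 : ↥(alternatingGroup (Fin 8)) →* ↥(alternatingGroup (Fin r)) :=
    (E.comp (alternatingGroup (Fin 8)).subtype).codRestrict _ fun σ => by
      rw [Perm.mem_alternatingGroup]
      exact (Perm.sign_extendDomain _ em).trans (Perm.mem_alternatingGroup.1 σ.2)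
  have hE8 : Function.Injective E8 := fun a b h =>
    Subtype.ext (Perm.extendDomainHom_injective em (congrArg Subtype.val h))
  let H8 : Subgroup H := E8.range.comap f
  let f8 : ↥H8 →* ↥(alternatingGroup (Fin 8)) :=
    (MulEquiv.symm (MonoidHom.ofInjective hE8)).toMonoidHom.comp (f.subgroupComap E8.range)
  have hf8 : Function.Surjective f8 := by
    refine (MonoidHom.ofInjective hE8).symm.surjective.comp ?_
    rintro ⟨c, hc⟩
    obtain ⟨x, rfl⟩ := hf c
    exact ⟨⟨x, hc⟩, rfl⟩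
  exact no_eight_exact (φ.comp H8.subtype) (hφ.comp H8.subtype_injective) N T hTN hTn hT h2g h12 hidx f8 hf8

/-- Subgroups of the image of a product of two cyclic groups have two generators. -/
theorem two_generated_of_image {X Y : Type*} [CommGroup X] [CommGroup Y] [IsCyclic X] [IsCyclic Y]
    (ψ : X × Y →* G) (U : Subgroup G) (hU : U ≤ ψ.range) : ∃ u v, U = Subgroup.closure {u, v} := by
  set U' := U.comap ψ with hU'
  obtain ⟨x, hx⟩ := IsCyclic.exists_generator (α := ↥(U'.comap (MonoidHom.inl X Y)))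
  obtain ⟨y, hy⟩ := IsCyclic.exists_generator (α := ↥(U'.map (MonoidHom.snd X Y)))
  obtain ⟨w, hw, hwy⟩ := y.2
  refine ⟨ψ (MonoidHom.inl X Y x), ψ w, le_antisymm ?_ ?_⟩
  · intro z hz
    obtain ⟨p, rfl⟩ := hU hz
    obtain ⟨i, hi⟩ := Subgroup.mem_zpowers_iff.1 (hy ⟨p.2, p, hz, rfl⟩)
    have hi' : (y : Y) ^ i = p.2 := congrArg Subtype.val hi
    have hq : p * (w ^ i)⁻¹ ∈ U' := mul_mem hz (inv_mem (zpow_mem hw i))
    have hq2 : (p * (w ^ i)⁻¹).2 = 1 := by
      have hwy' : w.2 = (y : Y) := hwy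
      simp [hwy', hi']
    have hqe : p * (w ^ i)⁻¹ = MonoidHom.inl X Y (p * (w ^ i)⁻¹).1 := Prod.ext rfl hq2
    obtain ⟨j, hj⟩ := Subgroup.mem_zpowers_iff.1 (hx ⟨(p * (w ^ i)⁻¹).1, by
      show MonoidHom.inl X Y _ ∈ U'
      rw [← hqe]; exact hq⟩)
    have hj' : (x : X) ^ j = (p * (w ^ i)⁻¹).1 := congrArg Subtype.val hj
    have e : p = MonoidHom.inl X Y ((x : X) ^ j) * w ^ i := by
      rw [hj', ← hqe, inv_mul_cancel_right]
    rw [e, map_mul, map_zpow, map_zpow, map_zpow]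
    exact mul_mem (zpow_mem (Subgroup.subset_closure (by simp)) j)
      (zpow_mem (Subgroup.subset_closure (by simp)) i)
  · rw [Subgroup.closure_le]
    rintro z (rfl | hz)
    · exact x.2
    · rw [Set.mem_singleton_iff] at hz
      subst hz
      exact hw

end Cfsg.Agent.KnownA.AltSect
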