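import Mathlib

/-!
No section isomorphic to an alternating group of degree at least seven, from the fusion in an abelian
subgroup of index prime to seven.
-/

set_option autoImplicit false
set_option linter.all false

namespace Cfsg.Agent.KnownA.AltSect

/-- A seven-cycle. -/
def c7 : Equiv.Perm (Fin 7) := finRotate 7

/-- A permutation of order three normalizing the seven-cycle. -/
def y7 : Equiv.Perm (Fin 7) where
  toFun i := 2 * i
  invFun i := 4 * i
  left_inv := by decide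
  right_inv := by decide

/-- Conjugate subgroups into `T`, and let powers centralize. -/
theorem no_seven {G : Type*} [Group G] [Finite G] (T : Subgroup G)
    (hidx : ¬ 7 ∣ T.index) (e : ℕ) (he : 2 ^ e % 7 ≠ 1)
    (hfus : ∀ S : Subgroup G, S ≤ T → ∀ h : G, (∀ s ∈ S, h * s * h⁻¹ ∈ S) →
      ∀ s ∈ S, h ^ e * s * (h ^ e)⁻¹ = s)
    (H : Subgroup G) (N : Subgroup ↥H) [N.Normal] (r : ℕ)
    (iso : ↥H ⧸ N ≃* ↥(alternatingGroup (Fin r))) : r ≤ 6 := by
  classical
  by_contra hr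
  push Not at hr
  haveI : Fact (Nat.Prime 7) := ⟨by norm_num⟩
  let f : ↥H →* ↥(alternatingGroup (Fin r)) := iso.toMonoidHom.comp (QuotientGroup.mk' N)
  have hf : Function.Surjective f := iso.surjective.comp (QuotientGroup.mk'_surjective N)
  -- the embedded seven-cycle and the element of order three
  let ι : Fin 7 → Fin r := Fin.castLE (by omega)
  have hι : Function.Injective ι := Fin.castLE_injective _
  let em : Fin 7 ≃ {x : Fin r // x ∈ Set.range ι} := Equiv.ofInjective ι hι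
  let E : Equiv.Perm (Fin 7) →* Equiv.Perm (Fin r) := Equiv.Perm.extendDomainHom em
  have hE : ∀ σ, Equiv.Perm.sign (E σ) = Equiv.Perm.sign σ := fun σ =>
    Equiv.Perm.sign_extendDomain σ em
  let cA : ↥(alternatingGroup (Fin r)) := ⟨E c7, by
    rw [Equiv.Perm.mem_alternatingGroup, hE]; decide⟩
  let yA : ↥(alternatingGroup (Fin r)) := ⟨E y7, by
    rw [Equiv.Perm.mem_alternatingGroup, hE]; decide⟩
  have hcy : yA * cA * yA⁻¹ = cA ^ 2 := by
    apply Subtype.ext
    show E y7 * E c7 * (E y7)⁻¹ = E c7 ^ 2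
    rw [← map_mul, ← map_inv, ← map_mul, ← map_pow]
    exact congrArg E (by decide)
  have hc7 : cA ^ 7 = 1 := by
    apply Subtype.ext
    show E c7 ^ 7 = 1
    rw [← map_pow, show c7 ^ 7 = 1 by decide, map_one]
  have hc1 : cA ≠ 1 := by
    intro h
    have h' : E c7 = E 1 := by rw [map_one]; exact congrArg Subtype.val h
    exact absurd (Equiv.Perm.extendDomainHom_injective em h') (by decide)
  have hord : orderOf cA = 7 := orderOf_eq_prime hc7 hc1
  -- Frattini
  set C : Subgroup ↥(alternatingGroup (Fin r)) := Subgroup.zpowers cA with hC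
  set H0 : Subgroup ↥H := C.comap f with hH0
  obtain ⟨y, hy⟩ := hf yA
  have hconj : ∀ x ∈ H0, y * x * y⁻¹ ∈ H0 := by
    intro x hx
    obtain ⟨j, hj⟩ := Subgroup.mem_zpowers_iff.1 (show f x ∈ C from hx)
    show f (y * x * y⁻¹) ∈ C
    rw [map_mul, map_mul, map_inv, hy, ← hj, ← conj_zpow, hcy]
    exact zpow_mem (pow_mem (Subgroup.mem_zpowers cA) 2) j
  obtain ⟨P⟩ : Nonempty (Sylow 7 ↥H0) := inferInstance
  -- the image of `P` is the whole of `C`
  let f0 : ↥H0 →* ↥C := f.subgroupComap C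
  have hf0 : Function.Surjective f0 := by
    rintro ⟨c, hc⟩
    obtain ⟨x, rfl⟩ := hf c
    exact ⟨⟨x, hc⟩, rfl⟩
  obtain ⟨p, hpP, hpc⟩ : ∃ p ∈ (P : Subgroup ↥H0), f (p : ↥H) = cA := by
    have hP := P.mapSurjective hf0
    have hcard : Nat.card ↥C = 7 := by rw [hC, Nat.card_zpowers, hord]
    have htop : ((P.mapSurjective hf0 : Sylow 7 ↥C) : Subgroup ↥C) = ⊤ := by
      refine Subgroup.eq_top_of_card_eq _ ?_
      rw [Sylow.card_eq_multiplicity, hcard]
      norm_num [Nat.Prime.factorization_self (show Nat.Prime 7 by norm_num)]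
    have hmem : (⟨cA, Subgroup.mem_zpowers cA⟩ : ↥C) ∈
        ((P.mapSurjective hf0 : Sylow 7 ↥C) : Subgroup ↥C) := htop ▸ Subgroup.mem_top _
    rw [Sylow.coe_mapSurjective, Subgroup.mem_map] at hmem
    obtain ⟨p, hp, hpe⟩ := hmem
    exact ⟨p, hp, congrArg Subtype.val hpe⟩
  -- an element normalizing `P` acting as `yA`
  set PH : Subgroup ↥H := (P : Subgroup ↥H0).map H0.subtype with hPH
  let σ : MulAut ↥H0 :=
    { toFun := fun x => ⟨y * x * y⁻¹, hconj x x.2⟩
      invFun := fun x => ⟨y⁻¹ * x * y, by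
        have hn : ∀ k : ℕ, y ^ k * (x : ↥H) * (y ^ k)⁻¹ ∈ H0 := by
          intro k
          induction k with
          | zero => simp
          | succ k ih =>
            have := hconj _ ih
            convert this using 1
            rw [pow_succ']; group
        obtain ⟨k, hk⟩ : ∃ k : ℕ, y ^ k = y⁻¹ := ⟨orderOf y - 1, by
          rw [eq_inv_iff_mul_eq_one, ← pow_succ, Nat.sub_add_cancel (orderOf_pos y), pow_orderOf_eq_one]⟩
        have := hn k
        rwa [hk, inv_inv] at this⟩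
      left_inv := fun x => Subtype.ext (by simp [mul_assoc])
      right_inv := fun x => Subtype.ext (by simp [mul_assoc])
      map_mul' := fun a b => Subtype.ext (by simp [mul_assoc]) }
  obtain ⟨a, ha⟩ := MulAction.exists_smul_eq ↥H0 (σ • P) P
  set y1 : ↥H := (a : ↥H) * y with hy1
  have hy1P : ∀ x ∈ PH, y1 * x * y1⁻¹ ∈ PH := by
    rintro _ ⟨x, hx, rfl⟩
    refine ⟨a * σ x * a⁻¹, ?_, by simp [hy1, σ, mul_assoc]⟩
    have h1 : σ x ∈ ((σ • P : Sylow 7 ↥H0) : Subgroup ↥H0) := by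
      rw [Sylow.pointwise_smul_def]
      exact Subgroup.smul_mem_pointwise_smul x σ _ hx
    have h2 : a * σ x * a⁻¹ ∈ ((a • σ • P : Sylow 7 ↥H0) : Subgroup ↥H0) := by
      rw [Sylow.smul_def, Sylow.pointwise_smul_def]
      exact Subgroup.smul_mem_pointwise_smul (σ x) (MulAut.conj a) _ h1
    rwa [ha] at h2
  obtain ⟨j, hj⟩ : ∃ j : ℤ, f y1 = cA ^ j * yA := by
    obtain ⟨j, hj⟩ := Subgroup.mem_zpowers_iff.1 (show f (a : ↥H) ∈ C from a.2)
    exact ⟨j, by rw [hy1, map_mul, hy, hj]⟩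
  -- move `P` into `T`
  set PG : Subgroup G := PH.map H.subtype with hPG
  have hPG7 : IsPGroup 7 ↥PG := (P.isPGroup'.map _).map _
  obtain ⟨Q⟩ : Nonempty (Sylow 7 ↥T) := inferInstance
  set QG : Subgroup G := (Q : Subgroup ↥T).map T.subtype with hQG
  have hQ7 : IsPGroup 7 ↥QG := Q.isPGroup'.map _
  have hQcard : Nat.card ↥QG = 7 ^ (Nat.card G).factorization 7 := by
    rw [hQG, Subgroup.card_map_of_injective T.subtype_injective, Sylow.card_eq_multiplicity]
    congr 1
    rw [← T.card_mul_index, Nat.factorization_mul Nat.card_pos.ne' (Subgroup.index_ne_zero_of_finite),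
      Finsupp.add_apply, Nat.factorization_eq_zero_of_not_dvd hidx, add_zero]
  obtain ⟨R, hR⟩ := hPG7.exists_le_sylow
  obtain ⟨g, hg⟩ := MulAction.exists_smul_eq G R (Sylow.ofCard QG hQcard)
  have hinto : ∀ x ∈ PG, g * x * g⁻¹ ∈ T := by
    intro x hx
    have h2 : g * x * g⁻¹ ∈ ((g • R : Sylow 7 G) : Subgroup G) := by
      rw [Sylow.smul_def, Sylow.pointwise_smul_def]
      exact Subgroup.smul_mem_pointwise_smul x (MulAut.conj g) _ (hR hx)
    rw [hg] at h2
    exact Subgroup.map_subtype_le _ h2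
  set S : Subgroup G := PG.map (MulAut.conj g).toMonoidHom with hS
  have hST : S ≤ T := by
    rintro _ ⟨x, hx, rfl⟩
    exact hinto x hx
  have hnorm : ∀ s ∈ S, g * y1 * g⁻¹ * s * (g * (y1 : G) * g⁻¹)⁻¹ ∈ S := by
    rintro _ ⟨_, ⟨x, hx, rfl⟩, rfl⟩
    refine ⟨_, ⟨_, hy1P x hx, rfl⟩, ?_⟩
    simp [mul_assoc]
  have key := hfus S hST (g * y1 * g⁻¹) hnorm (g * ((p : ↥H) : G) * g⁻¹)
    ⟨_, ⟨_, ⟨p, hpP, rfl⟩, rfl⟩, rfl⟩
  rw [conj_pow] at key
  have key' : y1 ^ e * (p : ↥H) * (y1 ^ e)⁻¹ = (p : ↥H) := by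
    apply Subtype.ext
    simp only [Subgroup.coe_mul, Subgroup.coe_inv, Subgroup.coe_pow]
    have h := congrArg (fun z => g⁻¹ * z * g) key
    simpa [mul_assoc] using h
  -- apply `f`
  have hk : ∀ k : ℕ, f y1 ^ k * cA * (f y1 ^ k)⁻¹ = cA ^ (2 ^ k) := by
    intro k
    induction k with
    | zero => simp
    | succ k ih =>
      have h1 : f y1 * cA * (f y1)⁻¹ = cA ^ 2 := by
        rw [hj]
        calc cA ^ j * yA * cA * (cA ^ j * yA)⁻¹ = cA ^ j * (yA * cA * yA⁻¹) * (cA ^ j)⁻¹ := by group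
          _ = cA ^ 2 := by rw [hcy]; group
      calc f y1 ^ (k + 1) * cA * (f y1 ^ (k + 1))⁻¹
          = f y1 * (f y1 ^ k * cA * (f y1 ^ k)⁻¹) * (f y1)⁻¹ := by rw [pow_succ']; group
        _ = (f y1 * cA * (f y1)⁻¹) ^ (2 ^ k) := by rw [ih, conj_pow]
        _ = cA ^ (2 ^ (k + 1)) := by rw [h1, ← pow_mul, pow_succ']
  have h := congrArg f key'
  rw [map_mul, map_mul, map_inv, map_pow, hpc, hk] at h
  apply he
  have h2 : cA ^ (2 ^ e) = cA ^ 1 := by rw [h, pow_one]
  have := pow_eq_pow_iff_modEq.1 h2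
  rw [hord] at this
  exact this

end Cfsg.Agent.KnownA.AltSect
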