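import Cfsg.Agent.Lib.KnownA.AltSect.NoSeven
import Cfsg.Agent.Lib.Chev.Tw.F4
import Cfsg.Agent.Lib.Chev.DefectZero

/-!
Fusion inside the torus of the large Ree groups, and the degrees of their alternating sections.
-/

set_option autoImplicit false
set_option linter.all false

namespace Cfsg.Agent.KnownA.AltSect

open Cfsg.Lie Cfsg.Agent.Lib.Chev Cfsg.Agent.Lib.Chev.Tw Cfsg.Agent.Lib.Chev.Tw.F4

variable {K : Type*} [Field K] [Fintype K] {m : ℕ} (A : Par K m)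
include A

/-- Two torus elements conjugate by `g` are conjugate by the monomial part of `g`. -/
theorem fusion {g : GL chevF4.Idx K} (hg : g ∈ (gens A).G1) :
    ∃ n, n ∈ chevF4.monomialSubgroup K ⊓ (gens A).G1 ∧ ∀ t ∈ chevF4.diagonalSubgroup K,
      g * t * g⁻¹ ∈ chevF4.diagonalSubgroup K → g * t * g⁻¹ = n * t * n⁻¹ := by
  obtain ⟨u₁, n, u₂, hu₁, -, hn, hnG, hu₂, -, rfl⟩ := (gens A).normal_form hg
  refine ⟨n, ⟨hn, hnG⟩, fun t ht ht' => ?_⟩
  set Y := sys A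
  set t' := u₁ * n * u₂ * t * (u₁ * n * u₂)⁻¹ with ht'def
  obtain ⟨l, hl⟩ := Y.G.exists_rep hn
  have htn : ∀ x ∈ chevF4.diagonalSubgroup K, n * x * n⁻¹ ∈ chevF4.diagonalSubgroup K := fun x hx =>
    (Subgroup.mem_normalizer_iff.1 (Y.G.monomial_le_normalizer hn) _).1 hx
  have huU : u₂ ∈ Y.G.USub K (flipSet chevF4 tabF4 l) :=
    Y.mem_flip hl.1 (Y.G.rep_act hl) hu₂.1 hu₂.2.2
  have huU' : t⁻¹ * u₂ * t ∈ Y.G.USub K (flipSet chevF4 tabF4 l) := by
    have := (Subgroup.mem_normalizer_iff.1 (Y.G.diag_normalizes _ (inv_mem ht)) _).1 huU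
    simpa using this
  have hb : t' * u₁ ∈ chevF4.borelSubgroup K :=
    mul_mem (Subgroup.mem_sup_right ht') (Subgroup.mem_sup_left hu₁)
  have hb' : u₁ * (n * t * n⁻¹) ∈ chevF4.borelSubgroup K :=
    mul_mem (Subgroup.mem_sup_left hu₁) (Subgroup.mem_sup_right (htn t ht))
  have e : t' * u₁ * n * u₂ = u₁ * (n * t * n⁻¹) * n * (t⁻¹ * u₂ * t) := by
    rw [ht'def]; group
  obtain ⟨e1, -⟩ := Y.G.normal_form_unique hl hb hb' huU huU' e
  have h2 : u₁⁻¹ * t' * u₁ = n * t * n⁻¹ := by rw [mul_assoc u₁⁻¹, e1]; group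
  have h3 : t'⁻¹ * u₁⁻¹ * t' * u₁ = t'⁻¹ * (n * t * n⁻¹) := by rw [← h2]; group
  have h4 : t'⁻¹ * u₁⁻¹ * t' * u₁ = 1 := by
    have hp : t'⁻¹ * u₁⁻¹ * t' ∈ chevF4.posUnipotent K := by
      have := (Subgroup.mem_normalizer_iff.1 (Y.G.diag_normalizes_pos (inv_mem ht')) _).1 (inv_mem hu₁)
      simpa using this
    exact Subgroup.mem_bot.1 (Y.G.pos_inf_diag (F := K) ▸ Subgroup.mem_inf.2
      ⟨mul_mem hp hu₁, h3 ▸ mul_mem (inv_mem ht') (htn t ht)⟩)
  exact inv_mul_eq_one.1 (h3.symm.trans h4)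

/-- The sixteenth power of a monomial element lies in the torus. -/
theorem pow16 {n : GL chevF4.Idx K} (hn : n ∈ chevF4.monomialSubgroup K ⊓ (gens A).G1) :
    n ^ 16 ∈ chevF4.diagonalSubgroup K := by
  obtain ⟨φ, -, hk⟩ := F4.weyl A
  have h : (⟨n, hn⟩ : ↥(chevF4.monomialSubgroup K ⊓ (gens A).G1)) ^ 16 ∈ φ.ker := by
    rw [MonoidHom.mem_ker, map_pow]
    have h16 : Nat.card (DihedralGroup 8) = 16 := by
      rw [DihedralGroup.nat_card]
    rw [← h16]
    exact pow_card_eq_one'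
  rw [hk, Subgroup.mem_subgroupOf] at h
  exact h.1

theorem ree_sections (H : Subgroup ↥(G1 K m)) (N : Subgroup ↥H) [N.Normal] (r : ℕ)
    (iso : ↥H ⧸ N ≃* ↥(alternatingGroup (Fin r))) : r ≤ 6 := by
  set T : Subgroup ↥(G1 K m) := (chevF4.diagonalSubgroup K).subgroupOf (G1 K m) with hT
  refine no_seven T ?_ 16 (by norm_num) ?_ H N r iso
  · -- the index
    have h1 : Nat.card ↥T = (2 ^ (2 * m + 1) - 1) ^ 2 := by
      rw [← card_diag A]
      exact Nat.card_congr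
        { toFun := fun x => ⟨x.1.1, x.2, x.1.2⟩
          invFun := fun x => ⟨⟨x.1, x.2.2⟩, x.2.1⟩
          left_inv := fun _ => rfl
          right_inv := fun _ => rfl }
    have h2 := card_group A
    rw [show Nat.card ↥(twistedF4 K (2 ^ m)) = Nat.card ↥(G1 K m) from rfl, ← T.card_mul_index, h1] at h2
    set q := 2 ^ (2 * m + 1) with hq
    have hq2 : 2 ≤ q := by
      rw [hq]; calc 2 = 2 ^ 1 := rfl
        _ ≤ _ := Nat.pow_le_pow_right (by norm_num) (by omega)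
    obtain ⟨r', hr'⟩ : ∃ r', q = r' + 1 := ⟨q - 1, by omega⟩
    have hidx : T.index = q ^ 12 * (q ^ 3 + 1) * (q + 1) * (q ^ 2 + 1) * (q ^ 6 + 1) := by
      have e4 : q ^ 4 - 1 = (q - 1) * ((q + 1) * (q ^ 2 + 1)) := by
        rw [hr']
        refine Nat.sub_eq_of_eq_add ?_
        rw [Nat.add_sub_cancel]; ring
      rw [e4] at h2
      refine Nat.eq_of_mul_eq_mul_left (show 0 < (q - 1) ^ 2 from pow_pos (by omega) 2) ?_
      rw [h2]; ring
    have h7 : q % 7 = 1 ∨ q % 7 = 2 ∨ q % 7 = 4 := by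
      rw [hq]
      generalize 2 * m + 1 = k
      induction k with
      | zero => simp
      | succ k ih => rw [pow_succ, Nat.mul_mod]; rcases ih with h | h | h <;> simp [h]
    rw [hidx, Nat.dvd_iff_mod_eq_zero]
    rcases h7 with h | h | h <;> simp [Nat.mul_mod, Nat.pow_mod, Nat.add_mod, h]
  · -- fusion
    intro S hS h hh s hs
    obtain ⟨n, hn, hfus⟩ := fusion A (g := (h : GL chevF4.Idx K)) h.2
    have step : ∀ x : ↥(G1 K m), x ∈ S → ((h * x * h⁻¹ : ↥(G1 K m)) : GL chevF4.Idx K) =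
        n * (x : GL chevF4.Idx K) * n⁻¹ := fun x hx => hfus _ (hS hx) (hS (hh x hx))
    have iter : ∀ k : ℕ, h ^ k * s * (h ^ k)⁻¹ ∈ S ∧
        ((h ^ k * s * (h ^ k)⁻¹ : ↥(G1 K m)) : GL chevF4.Idx K) =
          n ^ k * (s : GL chevF4.Idx K) * (n ^ k)⁻¹ := by
      intro k
      induction k with
      | zero => simp [hs]
      | succ k ih =>
        have e : h ^ (k + 1) * s * (h ^ (k + 1))⁻¹ = h * (h ^ k * s * (h ^ k)⁻¹) * h⁻¹ := by
          rw [pow_succ']; group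
        rw [e, step _ ih.1, ih.2]
        refine ⟨hh _ ih.1, ?_⟩
        rw [pow_succ']; group
    apply Subtype.ext
    rw [(iter 16).2]
    exact mul_inv_eq_of_eq_mul ((sys A).G.diag_comm (pow16 A hn) (hS hs))

end Cfsg.Agent.KnownA.AltSect
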